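import Mathlib.GroupTheory.Commutator.Basic
import Mathlib.GroupTheory.OrderOfElement
import Mathlib.Algebra.BigOperators.Group.Finset.Basic
import Mathlib.Algebra.Group.TypeTags.Basic
import Mathlib.Data.Nat.ModEq
import Mathlib.Tactic

/-!
# A canonical lift in a class two group of odd exponent

If a finite group acts on a class two group `N` of odd exponent, fixing the kernel of `q : N →* Λ`
pointwise and with orbit products trivial in `Λ`, then every fibre of `q` has a canonical member.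
-/

open scoped commutatorElement

namespace Cfsg.Agent.BlkChar.OddCorr

variable {N : Type*} [Group N] {Λ : Type*} [CommGroup Λ] {q : N →* Λ}

/-- The kernel is central. -/
def KerCentral (q : N →* Λ) : Prop := ∀ z, q z = 1 → ∀ w, Commute z w

theorem q_comm (x y : N) : q ⁅x, y⁆ = 1 := by
  rw [map_commutatorElement]
  exact commutatorElement_eq_one_iff_mul_comm.mpr (mul_comm _ _)

section Comm

variable (hc : KerCentral q)

include hc

theorem comm_mem (x y w : N) : Commute ⁅x, y⁆ w := hc _ (q_comm x y) w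

theorem comm_mul_left (x y z : N) : ⁅x * y, z⁆ = ⁅x, z⁆ * ⁅y, z⁆ := by
  have h : ⁅x * y, z⁆ = x * ⁅y, z⁆ * x⁻¹ * ⁅x, z⁆ := by
    rw [commutatorElement_def, commutatorElement_def, commutatorElement_def]; group
  rw [h, ← (comm_mem hc y z x).eq, mul_assoc _ x x⁻¹, mul_inv_cancel, mul_one,
    (comm_mem hc y z _).eq]

theorem comm_mul_right (x y z : N) : ⁅x, y * z⁆ = ⁅x, y⁆ * ⁅x, z⁆ := by
  rw [← commutatorElement_inv, comm_mul_left hc, mul_inv_rev, commutatorElement_inv,
    commutatorElement_inv, (comm_mem hc x z _).eq]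

theorem comm_congr {x x' y y' : N} (hx : q x = q x') (hy : q y = q y') : ⁅x, y⁆ = ⁅x', y'⁆ := by
  have h1 : ∀ a a' b : N, q a = q a' → ⁅a, b⁆ = ⁅a', b⁆ := by
    intro a a' b h
    have hz : q (a'⁻¹ * a) = 1 := by rw [map_mul, map_inv, h, inv_mul_cancel]
    have h2 : ⁅a'⁻¹ * a, b⁆ = 1 := commutatorElement_eq_one_iff_mul_comm.mpr (hc _ hz b).eq
    conv_lhs => rw [← mul_inv_cancel_left a' a]
    rw [comm_mul_left hc, h2, mul_one]
  rw [h1 x x' y hx, ← commutatorElement_inv, h1 y y' x' hy, commutatorElement_inv]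

theorem comm_inv_left (x y : N) : ⁅x⁻¹, y⁆ = ⁅x, y⁆⁻¹ :=
  eq_inv_of_mul_eq_one_left (by rw [← comm_mul_left hc, inv_mul_cancel, commutatorElement_one_left])

theorem comm_pow_left (x y : N) (k : ℕ) : ⁅x ^ k, y⁆ = ⁅x, y⁆ ^ k := by
  induction k with
  | zero => simp
  | succ k ih => rw [pow_succ, comm_mul_left hc, ih, pow_succ]

theorem mul_pow_eq (x y : N) (k : ℕ) : (x * y) ^ k = x ^ k * y ^ k * ⁅y, x⁆ ^ k.choose 2 := by
  induction k with
  | zero => simp
  | succ k ih =>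
    have h2 : y ^ k * x = x * y ^ k * ⁅y, x⁆ ^ k := by
      rw [← comm_pow_left hc, ← (comm_mem hc (y ^ k) x (x * y ^ k)).eq, commutatorElement_def]
      group
    have hC := fun w => ((comm_mem hc y x w).pow_left (k.choose 2)).eq
    have hD := fun w => ((comm_mem hc y x w).pow_left k).eq
    rw [pow_succ, ih, Nat.choose_succ_succ', Nat.choose_one_right, pow_add ⁅y, x⁆, pow_succ x, pow_succ y]
    generalize ⁅y, x⁆ ^ k.choose 2 = C at hC
    generalize ⁅y, x⁆ ^ k = D at hD h2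
    calc x ^ k * y ^ k * C * (x * y) = x ^ k * y ^ k * (C * (x * y)) := by group
      _ = x ^ k * y ^ k * ((x * y) * C) := by rw [hC]
      _ = x ^ k * (y ^ k * x) * y * C := by group
      _ = x ^ k * (x * y ^ k * D) * y * C := by rw [h2]
      _ = x ^ k * x * y ^ k * (D * (y * C)) := by group
      _ = x ^ k * x * y ^ k * (y * (D * C)) := by rw [← mul_assoc D y C, hD, mul_assoc y D C]
      _ = _ := by group

end Comm

variable {n m : ℕ} (hc : KerCentral q) (hm : 2 * m = n + 1) (hn : ∀ x : N, x ^ n = 1)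

/-- `N` with the multiplication `x * y * ⁅y, x⁆ ^ m`. -/
@[ext] structure Tw (hc : KerCentral q) (hm : 2 * m = n + 1) (hn : ∀ x : N, x ^ n = 1) where
  /-- The element. -/
  val : N

variable {hc hm hn}

theorem sq_comm (hm : 2 * m = n + 1) (hn : ∀ x : N, x ^ n = 1) (x : N) : (x ^ m) * (x ^ m) = x := by
  rw [← pow_add, ← two_mul, hm, pow_succ, hn, one_mul]

instance : CommGroup (Tw hc hm hn) where
  mul a b := ⟨a.val * b.val * ⁅b.val, a.val⁆ ^ m⟩
  one := ⟨1⟩
  inv a := ⟨a.val⁻¹⟩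
  one_mul a := by
    refine Tw.ext ?_
    show 1 * a.val * ⁅a.val, 1⁆ ^ m = a.val
    simp
  mul_one a := by
    refine Tw.ext ?_
    show a.val * 1 * ⁅1, a.val⁆ ^ m = a.val
    simp
  inv_mul_cancel a := by
    refine Tw.ext ?_
    show a.val⁻¹ * a.val * ⁅a.val, a.val⁻¹⁆ ^ m = 1
    simp [commutatorElement_def]
  mul_comm a b := by
    refine Tw.ext ?_
    show a.val * b.val * ⁅b.val, a.val⁆ ^ m = b.val * a.val * ⁅a.val, b.val⁆ ^ m
    have h1 : ⁅a.val, b.val⁆ * (b.val * a.val) = a.val * b.val := by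
      rw [commutatorElement_def]; group
    have h2 : ⁅a.val, b.val⁆ ^ m = ⁅a.val, b.val⁆ * ⁅b.val, a.val⁆ ^ m := by
      rw [← commutatorElement_inv a.val b.val, inv_pow, eq_mul_inv_iff_mul_eq]
      exact sq_comm hm hn _
    rw [h2, ← mul_assoc (b.val * a.val), ← (comm_mem hc a.val b.val (b.val * a.val)).eq, h1]
  mul_assoc a b c := by
    refine Tw.ext ?_
    show a.val * b.val * ⁅b.val, a.val⁆ ^ m * c.val * ⁅c.val, a.val * b.val * ⁅b.val, a.val⁆ ^ m⁆ ^ m =
      a.val * (b.val * c.val * ⁅c.val, b.val⁆ ^ m) * ⁅b.val * c.val * ⁅c.val, b.val⁆ ^ m, a.val⁆ ^ m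
    have e1 : ⁅c.val, a.val * b.val * ⁅b.val, a.val⁆ ^ m⁆ = ⁅c.val, a.val⁆ * ⁅c.val, b.val⁆ := by
      rw [comm_congr hc (y' := a.val * b.val) rfl
        (by rw [map_mul, map_pow, q_comm, one_pow, mul_one]),
        comm_mul_right hc]
    have e2 : ⁅b.val * c.val * ⁅c.val, b.val⁆ ^ m, a.val⁆ = ⁅b.val, a.val⁆ * ⁅c.val, a.val⁆ := by
      rw [comm_congr hc (x' := b.val * c.val)
        (by rw [map_mul, map_pow, q_comm, one_pow, mul_one]) rfl,
        comm_mul_left hc]
    rw [e1, e2, (comm_mem hc _ _ _).mul_pow, (comm_mem hc _ _ _).mul_pow]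
    have hA := fun w => ((comm_mem hc b.val a.val w).pow_left m).eq
    have hB := fun w => ((comm_mem hc c.val a.val w).pow_left m).eq
    have hC := fun w => ((comm_mem hc c.val b.val w).pow_left m).eq
    generalize ⁅b.val, a.val⁆ ^ m = A, ⁅c.val, a.val⁆ ^ m = B, ⁅c.val, b.val⁆ ^ m = C at hA hB hC
    calc a.val * b.val * A * c.val * (B * C) = a.val * b.val * (A * c.val) * (B * C) := by group
      _ = a.val * b.val * (c.val * A) * (B * C) := by rw [hA]
      _ = a.val * b.val * c.val * (A * B * C) := by group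
      _ = a.val * b.val * c.val * (C * (A * B)) := by rw [hC]
      _ = _ := by group

theorem Tw.mul_val (a b : Tw hc hm hn) : (a * b).val = a.val * b.val * ⁅b.val, a.val⁆ ^ m := rfl

theorem Tw.mul_val_of_ker (a b : Tw hc hm hn) (hb : q b.val = 1) : (a * b).val = a.val * b.val := by
  rw [Tw.mul_val, commutatorElement_eq_one_iff_mul_comm.mpr (hc _ hb a.val).eq, one_pow, mul_one]

theorem Tw.q_mul (a b : Tw hc hm hn) : q (a * b).val = q a.val * q b.val := by
  rw [Tw.mul_val, map_mul, map_mul, map_pow, q_comm, one_pow, mul_one]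

theorem Tw.pow_val (a : Tw hc hm hn) (k : ℕ) : (a ^ k).val = a.val ^ k := by
  induction k with
  | zero => rw [pow_zero, pow_zero]; rfl
  | succ k ih =>
    rw [pow_succ, Tw.mul_val, ih, pow_succ,
      commutatorElement_eq_one_iff_mul_comm.mpr (Commute.self_pow a.val k).eq, one_pow, mul_one]

/-- An automorphism of `N` as an automorphism of the twisted group. -/
def Tw.map (h : N ≃* N) : Tw hc hm hn →* Tw hc hm hn where
  toFun a := ⟨h a.val⟩
  map_one' := Tw.ext (map_one h)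
  map_mul' a b := Tw.ext (by simp [Tw.mul_val, map_commutatorElement])

/-- The underlying element map to `Λ`. -/
def Tw.quot : Tw hc hm hn →* Λ where
  toFun a := q a.val
  map_one' := map_one q
  map_mul' := Tw.q_mul

variable (hc hm hn) {ι : Type*} [Fintype ι] (act : ι → N ≃* N)

include hc hm hn in
/-- The canonical lift. -/
theorem exists_lift (hcop : (Fintype.card ι).Coprime n) (hfix : ∀ s z, q z = 1 → act s z = z)
    (hprod : ∀ x, ∏ s, q (act s x) = 1) :
    ∃ P : N → N, (∀ x, q (P x) = q x) ∧ (∀ x y, q x = q y → P x = P y) ∧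
      (∀ x y, P x * P y = P (x * y) * ⁅x, y⁆ ^ m) ∧
      ∀ h : N ≃* N, (∀ s x, h (act s x) = act s (h x)) → ∀ x, h (P x) = P (h x) := by
  obtain ⟨k, hk⟩ : ∃ k, ∀ z : N, (z ^ Fintype.card ι) ^ k = z := by
    rcases Nat.lt_or_ge n 2 with hn2 | hn2
    · obtain rfl : n = 1 := by omega
      exact ⟨0, fun z => by rw [pow_zero, ← hn z, pow_one]⟩
    · obtain ⟨k, -, hk⟩ := Nat.exists_mul_mod_eq_one_of_coprime hcop (by omega)
      refine ⟨k, fun z => ?_⟩
      rw [← pow_mul, ← Nat.div_add_mod (Fintype.card ι * k) n, hk, pow_succ, pow_mul, hn, one_pow,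
        one_mul]
  let R : Tw hc hm hn →* Tw hc hm hn :=
    { toFun := fun a => (∏ s, Tw.map (act s) a) ^ k
      map_one' := by simp
      map_mul' := fun a b => by simp [Finset.prod_mul_distrib, mul_pow] }
  have hRker : ∀ a, q (R a).val = 1 := fun a => by
    show Tw.quot ((∏ s, Tw.map (act s) a) ^ k) = 1
    rw [map_pow, map_prod]
    have : ∀ s, Tw.quot (Tw.map (hc := hc) (hm := hm) (hn := hn) (act s) a) = q (act s a.val) :=
      fun s => rfl
    rw [Finset.prod_congr rfl fun s _ => this s, hprod, one_pow]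
  have hRfix : ∀ a : Tw hc hm hn, q a.val = 1 → R a = a := fun a ha => by
    show (∏ s, Tw.map (act s) a) ^ k = a
    rw [Finset.prod_congr rfl (g := fun _ => a) (fun s _ =>
      (Tw.ext (hfix s _ ha) : Tw.map (act s) a = a)), Finset.prod_const,
      Finset.card_univ]
    refine Tw.ext ?_
    rw [Tw.pow_val, Tw.pow_val, hk]
  refine ⟨fun x => x * (R ⟨x⟩).val⁻¹, fun x => ?_, fun x y h => ?_, fun x y => ?_, fun h hh x => ?_⟩
  · rw [map_mul, map_inv, hRker, inv_one, mul_one]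
  · have hz : q (x⁻¹ * y) = 1 := by rw [map_mul, map_inv, h, inv_mul_cancel]
    have e : (⟨y⟩ : Tw hc hm hn) = ⟨x⟩ * ⟨x⁻¹ * y⟩ :=
      Tw.ext (by rw [Tw.mul_val_of_ker _ _ hz, mul_inv_cancel_left])
    show x * (R ⟨x⟩).val⁻¹ = y * (R ⟨y⟩).val⁻¹
    rw [e, map_mul, Tw.mul_val_of_ker _ _ (hRker _), hRfix _ hz, mul_inv_rev]
    show x * (R ⟨x⟩).val⁻¹ = y * ((x⁻¹ * y)⁻¹ * (R ⟨x⟩).val⁻¹)
    group
  · have hz : q (⁅y, x⁆ ^ m) = 1 := by
      rw [map_pow, q_comm, one_pow]
    have e : (⟨x⟩ * ⟨y⟩ : Tw hc hm hn) = ⟨x * y⟩ * ⟨⁅y, x⁆ ^ m⟩ :=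
      Tw.ext (by rw [Tw.mul_val_of_ker _ _ hz, Tw.mul_val])
    have e2 := congrArg (fun a => (R a).val) e
    simp only [map_mul] at e2
    rw [Tw.mul_val_of_ker _ _ (hRker _), Tw.mul_val_of_ker _ _ (hRker _), hRfix _ hz] at e2
    have c1 := fun w => (hc _ (hRker ⟨x⟩) w).inv_left.eq
    have c2 := fun w => (hc _ hz w).eq
    have e3 : (R ⟨x * y⟩).val = (R ⟨x⟩).val * (R ⟨y⟩).val * (⁅y, x⁆ ^ m)⁻¹ := by
      rw [e2, mul_inv_cancel_right]
    show x * (R ⟨x⟩).val⁻¹ * (y * (R ⟨y⟩).val⁻¹) = x * y * (R ⟨x * y⟩).val⁻¹ * ⁅x, y⁆ ^ m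
    rw [e3, ← commutatorElement_inv y x, inv_pow, mul_inv_rev, mul_inv_rev, inv_inv]
    have c3 := fun w => (hc _ (hRker ⟨y⟩) w).inv_left.eq
    generalize (R ⟨x⟩).val⁻¹ = a at c1
    generalize (R ⟨y⟩).val⁻¹ = b at c3
    generalize ⁅y, x⁆ ^ m = c at c2
    calc x * a * (y * b) = x * (a * y) * b := by group
      _ = x * (y * a) * b := by rw [c1]
      _ = x * y * (a * b) := by group
      _ = x * y * (b * a) := by rw [c1 b]
      _ = x * y * (b * a * (c * c⁻¹)) := by group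
      _ = x * y * ((b * a * c) * c⁻¹) := by group
      _ = x * y * ((c * (b * a)) * c⁻¹) := by rw [c2]
      _ = _ := by group
  · have e : ∀ a : Tw hc hm hn, Tw.map h (R a) = R (Tw.map h a) := fun a => by
      show Tw.map h ((∏ s, Tw.map (act s) a) ^ k) = (∏ s, Tw.map (act s) (Tw.map h a)) ^ k
      rw [map_pow, map_prod]
      congr 1
      exact Finset.prod_congr rfl fun s _ => Tw.ext (hh s a.val)
    rw [map_mul, map_inv, ← show (R ⟨h x⟩).val = h (R ⟨x⟩).val from
      congrArg Tw.val (e ⟨x⟩).symm]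

end Cfsg.Agent.BlkChar.OddCorr
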