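import Cfsg.Agent.BlkChar.OddCorr.Ops
import Cfsg.Agent.Lib.CharCore.Rep
import Cfsg.Agent.Lib.CharCore.Basic

/-!
# The signed restriction to the fixed point subgroup

With an involution in the commutant of `L` that inverts the action of `K ⧸ L`, the restriction of a
character over `φ` to `H` splits as `a + b` so that `a - b` has the norm of the character.
-/

namespace Cfsg.Agent.BlkChar.OddCorr

open Module
open scoped commutatorElement ComplexConjugate

variable {G : Type*} [Group G] [Fintype G] {W : Type*} [AddCommGroup W] [Module ℂ W]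
  [FiniteDimensional ℂ W]

/-- The signed restriction. -/
noncomputable def signed (K H : Subgroup G) [Fintype K] (φ : Representation ℂ K W)
    (u : W →ₗ[ℂ] W) (χ : G → ℂ) : H → ℂ := fun h =>
  ((finrank ℂ W : ℂ) / Fintype.card K) *
    ∑ k : K, LinearMap.trace ℂ W (u * φ k⁻¹) * χ ((k : G) * h)

omit [Fintype G] [FiniteDimensional ℂ W] in
theorem signed_add (K H : Subgroup G) [Fintype K] (φ : Representation ℂ K W)
    (u : W →ₗ[ℂ] W) (χ χ' : G → ℂ) :
    signed K H φ u (χ + χ') = signed K H φ u χ + signed K H φ u χ' := by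
  funext h
  simp only [signed, Pi.add_apply, mul_add, Finset.sum_add_distrib]

omit [FiniteDimensional ℂ W] in
theorem trace_psi {X : Type*} [AddCommGroup X] [Module ℂ X] [FiniteDimensional ℂ X]
    (ρ : Representation ℂ G X) (g : G) :
    LinearMap.trace ℂ (X →ₗ[ℂ] X) (psi ρ g) = ρ.character g * ρ.character g⁻¹ :=
  trace_sandwich _ _

/-- The main computation. -/
theorem exists_signed (K L C H : Subgroup G) [K.Normal] [L.Normal] [Fintype K] [Fintype H]
    (hLK : L ≤ K) (hH : H = L ⊔ C) (hgen : ∀ g : G, ∃ k ∈ K, ∃ h ∈ H, g = k * h)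
    (hab : ∀ a b : K, ((⁅a, b⁆ : K) : G) ∈ L) (hodd : Odd (Nat.card G))
    (φ : Representation ℂ K W) [φ.IsIrreducible] (u : W →ₗ[ℂ] W) (hu : u * u = 1)
    (huL : ∀ l ∈ L.subgroupOf K, Commute u (φ l))
    [Fintype (L.subgroupOf K)]
    (huk : ∀ k, ∃ a : L.subgroupOf K → ℂ, u * φ k * u * φ k = ∑ l, a l • φ (l : K))
    (hCφ : ∀ c ∈ C, ∀ x, φ.character ((MulAut.conjNormal c : MulAut K) x) = φ.character x)
    (huC : ∀ c ∈ C, phi φ (φ.comp (MulAut.conjNormal c : MulAut K).toMonoidHom) u = u)
    {χ : G → ℂ} (hχ : Cfsg.IsCharacter G χ) (m : ℂ) (hm : ∀ k : K, χ k = m * φ.character k) :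
    ∃ a b : H → ℂ, Cfsg.IsCharacter H a ∧ Cfsg.IsCharacter H b ∧
      (fun h : H => χ h) = a + b ∧ signed K H φ u χ = a - b ∧
      Cfsg.classInner (signed K H φ u χ) (signed K H φ u χ) = Cfsg.classInner χ χ := by
  classical
  obtain ⟨nX, ρ, rfl⟩ := hχ
  set X := Fin nX → ℂ
  let ρK : Representation ℂ K X := ρ.comp K.subtype
  have hρK : ∀ k, ρK.character k = m * φ.character k := hm
  set U := phi φ ρK u with hUdef
  have hUsq : U * U = 1 := by rw [hUdef, ← phi_mul hρK, hu, phi_one hρK]
  have hUH : ∀ h ∈ H, Commute U (ρ h) := by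
    let Z : Subgroup G :=
      { carrier := {g | Commute U (ρ g)}
        one_mem' := by show Commute U (ρ 1); rw [map_one]; exact Commute.one_right _
        mul_mem' := fun {a b} (ha : Commute U (ρ a)) (hb : Commute U (ρ b)) => by
          show Commute U (ρ (a * b)); rw [map_mul]; exact ha.mul_right hb
        inv_mem' := fun {a} (ha : Commute U (ρ a)) => by
          show U * ρ a⁻¹ = ρ a⁻¹ * U
          calc U * ρ a⁻¹ = ρ a⁻¹ * (ρ a * U) * ρ a⁻¹ := by
                rw [← mul_assoc, ← map_mul, inv_mul_cancel, map_one, one_mul]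
            _ = ρ a⁻¹ * U * (ρ a * ρ a⁻¹) := by rw [← ha.eq]; simp only [mul_assoc]
            _ = _ := by rw [← map_mul, mul_inv_cancel, map_one, mul_one] }
    have hle : H ≤ Z := by
      rw [hH]
      refine sup_le (fun l hl => ?_) (fun c hc => ?_)
      · show Commute U (ρ l)
        rw [hUdef, show ρ l = phi φ ρK (φ ⟨l, hLK hl⟩) from (phi_rep hρK ⟨l, hLK hl⟩).symm]
        show _ * _ = _ * _
        rw [← phi_mul hρK, ← phi_mul hρK, (huL ⟨l, hLK hl⟩ hl).eq]
      · show Commute U (ρ c)
        set τ : MulAut K := MulAut.conjNormal c with hτ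
        let φτ : Representation ℂ K W := φ.comp τ.toMonoidHom
        have hτ1 : ∀ k, φτ.character k = 1 * φ.character k := fun k => by
          rw [one_mul]; exact hCφ c hc k
        have h := LinearMap.congr_fun (f := (phi φ ρK).comp (phi φ (φ.comp τ.toMonoidHom)))
          (g := (sandwich (ρ c) (ρ c⁻¹)).comp (phi φ ρK)) (ext_rep φ fun k => by
            rw [LinearMap.comp_apply, LinearMap.comp_apply, phi_rep hτ1, phi_rep hρK, sandwich_apply]
            show phi φ ρK (φ (τ k)) = _
            rw [phi_rep hρK]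
            show ρ ((τ k : K) : G) = ρ c * (ρ (k : G) * ρ c⁻¹)
            rw [hτ, MulAut.conjNormal_apply, map_mul, map_mul, mul_assoc]) u
        rw [LinearMap.comp_apply, LinearMap.comp_apply, huC c hc, ← hUdef, sandwich_apply] at h
        show U * ρ c = ρ c * U
        conv_lhs => rw [h, mul_assoc, mul_assoc, ← map_mul, inv_mul_cancel, map_one, mul_one]
    exact fun h hh => hle hh
  have hsigned : ∀ h : H, signed K H φ u ρ.character h = LinearMap.trace ℂ X (U * ρ h) := by
    intro h
    rw [hUdef, phi_apply, smul_mul_assoc, Finset.sum_mul, map_smul, map_sum, smul_eq_mul]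
    refine congrArg _ (Finset.sum_congr rfl fun k _ => ?_)
    rw [smul_mul_assoc, map_smul, smul_eq_mul]
    show _ = _ * LinearMap.trace ℂ X (ρ (k : G) * ρ h)
    rw [← map_mul]
    rfl
  -- the two eigenspaces
  let ρH : Representation ℂ H X := ρ.comp H.subtype
  let S : Subrepresentation ρH :=
    { toSubmodule := LinearMap.ker (U - 1)
      apply_mem_toSubmodule := fun h x hx => by
        have e := LinearMap.congr_fun (hUH h h.2).eq x
        simp only [LinearMap.mem_ker, LinearMap.sub_apply, Module.End.one_apply, sub_eq_zero] at hx ⊢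
        simp only [Module.End.mul_apply, hx] at e
        exact e }
  let T : Subrepresentation ρH :=
    { toSubmodule := LinearMap.ker (U + 1)
      apply_mem_toSubmodule := fun h x hx => by
        have e := LinearMap.congr_fun (hUH h h.2).eq x
        simp only [LinearMap.mem_ker, LinearMap.add_apply, Module.End.one_apply,
          add_eq_zero_iff_eq_neg] at hx ⊢
        simp only [Module.End.mul_apply, hx, map_neg] at e
        exact e }
  have hUU : ∀ x, U (U x) = x := fun x => LinearMap.congr_fun hUsq x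
  have hST : IsCompl S.toSubmodule T.toSubmodule := by
    constructor
    · rw [Submodule.disjoint_def]
      intro x (h1 : (U - 1) x = 0) (h2 : (U + 1) x = 0)
      rw [LinearMap.sub_apply, Module.End.one_apply, sub_eq_zero] at h1
      rw [LinearMap.add_apply, Module.End.one_apply, h1, ← two_smul ℂ] at h2
      exact (smul_eq_zero.mp h2).resolve_left two_ne_zero
    · rw [codisjoint_iff, eq_top_iff]
      intro x _
      refine Submodule.mem_sup.mpr ⟨(2 : ℂ)⁻¹ • (x + U x), ?_, (2 : ℂ)⁻¹ • (x - U x), ?_, ?_⟩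
      · show (U - 1) _ = 0
        rw [map_smul, LinearMap.sub_apply, Module.End.one_apply, map_add, hUU,
          show U x + x - (x + U x) = 0 by abel, smul_zero]
      · show (U + 1) _ = 0
        rw [map_smul, LinearMap.add_apply, Module.End.one_apply, map_sub, hUU,
          show U x - x + (x - U x) = 0 by abel, smul_zero]
      · rw [← smul_add, show x + U x + (x - U x) = (2 : ℂ) • x by rw [two_smul]; abel,
          inv_smul_smul₀ two_ne_zero]
  have hdiff : ∀ h : H, LinearMap.trace ℂ X (U * ρ h) =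
      S.toRepresentation.character h - T.toRepresentation.character h := by
    intro h
    let e := Submodule.prodEquivOfIsCompl S.toSubmodule T.toSubmodule hST
    have hconj : e.conj ((S.toRepresentation h).prodMap (-(T.toRepresentation h))) = U * ρ h := by
      refine LinearMap.ext fun v => ?_
      obtain ⟨⟨a, b⟩, rfl⟩ := e.surjective v
      have h1 : U (ρ h a) = ρ h a := by
        have := S.apply_mem_toSubmodule h a.2
        change (U - 1) (ρ h a) = 0 at this
        rwa [LinearMap.sub_apply, Module.End.one_apply, sub_eq_zero] at this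
      have h2 : U (ρ h b) = -ρ h b := by
        have := T.apply_mem_toSubmodule h b.2
        change (U + 1) (ρ h b) = 0 at this
        rwa [LinearMap.add_apply, Module.End.one_apply, add_eq_zero_iff_eq_neg] at this
      simp [LinearEquiv.conj_apply, e, Subrepresentation.toRepresentation, map_add, h1, h2, ρH]
    rw [← hconj, LinearMap.trace_conj', LinearMap.trace_prodMap']
    rw [sub_eq_add_neg]
    exact congrArg _ (map_neg (LinearMap.trace ℂ T.toSubmodule) (T.toRepresentation h))
  have ha := CharCore.isCharacter_character S.toRepresentation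
  have hb := CharCore.isCharacter_character T.toRepresentation
  have hf : signed K H φ u ρ.character =
      S.toRepresentation.character - T.toRepresentation.character :=
    funext fun h => (hsigned h).trans (hdiff h)
  refine ⟨_, _, ha, hb, CharCore.character_eq_add_of_isCompl ρH S T hST, hf, ?_⟩
  -- the norm
  have hstar : ∀ h : H, conj (signed K H φ u ρ.character h) = LinearMap.trace ℂ X (U * ρ (h⁻¹ : H)) :=
    fun h => by
      rw [hdiff h⁻¹, hf, Pi.sub_apply, map_sub, CharCore.IsCharacter.apply_inv ha,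
        CharCore.IsCharacter.apply_inv hb]
  set CU := sandwich U U with hCU
  have hterm : ∀ h : H, signed K H φ u ρ.character h * conj (signed K H φ u ρ.character h) =
      LinearMap.trace ℂ (X →ₗ[ℂ] X) (CU * psi ρ h) := by
    intro h
    rw [hstar, hsigned, hCU, psi, sandwich_mul, trace_sandwich, LinearMap.trace_mul_comm ℂ (ρ (↑h)⁻¹) U]
    rfl
  haveI := Fintype.ofFinite (dual (L.subgroupOf K))
  haveI : (L.subgroupOf K).Normal := Subgroup.normal_subgroupOf
  have hab' : ∀ a b : K, ⁅a, b⁆ ∈ L.subgroupOf K := fun a b => hab a b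
  set P0 := ∑ l : L.subgroupOf K, psi ρ ((l : K) : G) with hP0
  set D : ℂ := (Fintype.card (dual (L.subgroupOf K)) : ℂ) with hD
  have hsum : ∑ a : dual (L.subgroupOf K), proj ρ K (a : K →* ℂˣ) = D • P0 := by
    simp only [proj]
    rw [Finset.sum_comm]
    simp only [← Finset.sum_smul, sum_dual hab', ite_smul, zero_smul]
    rw [← Finset.sum_filter, show (Finset.univ.filter fun k : K => k⁻¹ ∈ L.subgroupOf K) =
        Finset.univ.filter (fun k : K => k ∈ L.subgroupOf K) by ext k; simp,
      Finset.sum_subtype (p := fun k : K => k ∈ L.subgroupOf K) _ (fun k => by simp), hP0,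
      Finset.smul_sum]
  have hDL : D * Fintype.card (L.subgroupOf K) = Fintype.card K := by
    have h1 : ∑ a : dual (L.subgroupOf K), ∑ k : K, ((a : K →* ℂˣ) k : ℂ) = Fintype.card K := by
      rw [Finset.sum_eq_single 1]
      · simp
      · exact fun a _ ha => sum_hom_apply_eq_zero K fun h => ha (Subtype.ext h)
      · exact fun h => absurd (Finset.mem_univ _) h
    rw [← h1, Finset.sum_comm]
    simp only [sum_dual hab']
    rw [← Finset.sum_filter, Finset.sum_const, ← Fintype.card_subtype, nsmul_eq_mul, mul_comm]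
  have hP0H : (∑ h : H, psi ρ h) * P0 = (Fintype.card (L.subgroupOf K) : ℂ) • ∑ h : H, psi ρ h := by
    rw [hP0, Finset.mul_sum, Nat.cast_smul_eq_nsmul, ← Finset.card_univ, ← Finset.sum_const]
    refine Finset.sum_congr rfl fun l _ => ?_
    rw [Finset.sum_mul]
    have hlH : ((l : K) : G) ∈ H := hH ▸ Subgroup.mem_sup_left l.2
    exact Fintype.sum_equiv (Equiv.mulRight (⟨_, hlH⟩ : H)) _ _ fun h => psi_mul ρ _ _
  have hP0proj : ∀ a : dual (L.subgroupOf K), proj ρ K (a : K →* ℂˣ) * P0 =
      (Fintype.card (L.subgroupOf K) : ℂ) • proj ρ K (a : K →* ℂˣ) := by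
    intro a
    rw [hP0, Finset.mul_sum, Finset.sum_congr rfl fun l _ => by
      rw [proj_mul_psi, a.2 _ l.2, Units.val_one, one_smul], Finset.sum_const,
      Finset.card_univ, Nat.cast_smul_eq_nsmul]
  have hP0k : ∀ k : K, psi ρ (k : G) * P0 = P0 * psi ρ (k : G) := by
    intro k
    rw [hP0, Finset.mul_sum, Finset.sum_mul]
    refine Fintype.sum_equiv (MulAut.conjNormal k : MulAut (L.subgroupOf K)).toEquiv _ _ fun l => ?_
    rw [psi_mul, psi_mul]
    congr 1
    show (k : G) * ((l : K) : G) = ((MulAut.conjNormal k l : L.subgroupOf K) : K) * (k : G)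
    rw [MulAut.conjNormal_apply, Subgroup.coe_mul, Subgroup.coe_mul, Subgroup.coe_inv,
      inv_mul_cancel_right]
  have hP0U : CU * P0 = P0 * CU := by
    rw [hP0, Finset.mul_sum, Finset.sum_mul]
    refine Finset.sum_congr rfl fun l _ => ?_
    have hlH : ((l : K) : G) ∈ H := hH ▸ Subgroup.mem_sup_left l.2
    rw [hCU, psi, sandwich_mul, sandwich_mul, (hUH _ hlH).eq, (hUH _ (inv_mem hlH)).eq]
  have hflip : ∀ k : K, CU * psi ρ (k : G) * P0 = psi ρ ((k⁻¹ : K) : G) * CU * P0 := by
    intro k
    refine LinearMap.ext fun A => ?_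
    set B := P0 A with hB
    have hBL : ∀ l : L.subgroupOf K, Commute B (ρ ((l : K) : G)) := by
      intro l
      have e : psi ρ ((l : K) : G) * P0 = P0 := by
        rw [hP0, Finset.mul_sum]
        exact Fintype.sum_equiv (Equiv.mulLeft l) _ _ fun j => psi_mul ρ _ _
      have e1 := LinearMap.congr_fun e A
      rw [Module.End.mul_apply, ← hB, psi, sandwich_apply] at e1
      show B * ρ ((l : K) : G) = ρ ((l : K) : G) * B
      conv_lhs => rw [← e1, mul_assoc, mul_assoc, ← map_mul, inv_mul_cancel, map_one, mul_one]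
    obtain ⟨a, ha⟩ := huk k
    set z : X →ₗ[ℂ] X := ∑ l : L.subgroupOf K, a l • ρ ((l : K) : G) with hz
    have hBz : Commute B z := Commute.sum_right _ _ _ fun l _ => (hBL l).smul_right _
    have hzU : U * ρ (k : G) * U * ρ (k : G) = z := by
      have e := congrArg (phi φ ρK) ha
      rw [phi_mul hρK, phi_mul hρK, phi_mul hρK, map_sum, phi_rep hρK, ← hUdef] at e
      rw [show ρ (k : G) = ρK k from rfl, e, hz]
      exact Finset.sum_congr rfl fun l _ => by rw [map_smul, phi_rep hρK]; rfl
    have hzU2 : ρ (k : G) * U * ρ (k : G) = U * z := by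
      rw [← hzU]; simp only [← mul_assoc]; rw [hUsq, one_mul]
    have hinv : (ρ (k : G) * U * ρ (k : G)) * (ρ (k : G)⁻¹ * U * ρ (k : G)⁻¹) = 1 := by
      calc _ = ρ (k : G) * U * (ρ (k : G) * ρ (k : G)⁻¹) * U * ρ (k : G)⁻¹ := by
            simp only [mul_assoc]
        _ = _ := by
            rw [← map_mul, mul_inv_cancel, map_one, mul_one, mul_assoc (ρ (k : G)) U U, hUsq, mul_one,
              ← map_mul, mul_inv_cancel, map_one]
    show U * (ρ (k : G) * (B * ρ (k : G)⁻¹) * U) =
      ρ ((k⁻¹ : K) : G) * (U * (B * U) * ρ ((k⁻¹ : K) : G)⁻¹)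
    rw [Subgroup.coe_inv, inv_inv]
    set r := ρ (k : G) with hr
    set r' := ρ (k : G)⁻¹ with hr'
    have hr1 : r' * r = 1 := by rw [hr, hr', ← map_mul, inv_mul_cancel, map_one]
    have hr2 : r * r' = 1 := by rw [hr, hr', ← map_mul, mul_inv_cancel, map_one]
    calc U * (r * (B * r') * U) = (r' * r) * U * r * B * r' * U * (r' * r) := by
          rw [hr1]; simp only [mul_one, one_mul, mul_assoc]
      _ = r' * (r * U * r) * B * (r' * U * r') * r := by simp only [mul_assoc]
      _ = r' * (U * (B * z)) * (r' * U * r') * r := by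
          rw [hzU2, hBz.eq]; simp only [mul_assoc]
      _ = r' * (U * B * U) * ((r * U * r) * (r' * U * r')) * r := by
          rw [hzU2]
          simp only [mul_assoc]
          rw [show U * (U * (z * (r' * (U * (r' * r))))) = (U * U) * (z * (r' * (U * (r' * r)))) by
            simp only [mul_assoc], hUsq, one_mul]
      _ = _ := by rw [hinv, mul_one]; simp only [mul_assoc]
  have hCUproj : ∀ a : dual (L.subgroupOf K),
      CU * proj ρ K (a : K →* ℂˣ) = proj ρ K (a : K →* ℂˣ)⁻¹ * CU := by
    intro a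
    have hL0 : (Fintype.card (L.subgroupOf K) : ℂ) ≠ 0 := Nat.cast_ne_zero.mpr Fintype.card_ne_zero
    refine smul_right_injective _ hL0 ?_
    show (_ : ℂ) • _ = (_ : ℂ) • _
    rw [← mul_smul_comm, ← hP0proj, ← smul_mul_assoc]
    have hi := hP0proj ⟨(a : K →* ℂˣ)⁻¹, inv_mem a.2⟩
    rw [← hi, mul_assoc (proj ρ K (a : K →* ℂˣ)⁻¹) P0 CU, ← hP0U]
    simp only [proj, Finset.mul_sum, Finset.sum_mul, ← mul_assoc, smul_mul_assoc, mul_smul_comm,
      hflip]
    refine Fintype.sum_equiv (Equiv.inv K) _ _ fun k => ?_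
    simp only [Equiv.inv_apply, MonoidHom.inv_apply, map_inv, inv_inv, mul_assoc]
  have hpsi_k : ∀ a : dual (L.subgroupOf K), ∀ h : H,
      LinearMap.trace ℂ (X →ₗ[ℂ] X) (CU * psi ρ h * proj ρ K (a : K →* ℂˣ)) =
        if a = 1 then ∑ k : K, ρ.character ((k : G) * h) * ρ.character ((k : G) * h)⁻¹ else 0 := by
    intro a h
    set b : K →* ℂˣ :=
      (a : K →* ℂˣ).comp (MulAut.conjNormal (h : G)⁻¹ : MulAut K).toMonoidHom with hb
    have hbd : b ∈ dual (L.subgroupOf K) := fun l hl => a.2 _ (by
      show ((MulAut.conjNormal (h : G)⁻¹ l : K) : G) ∈ L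
      rw [MulAut.conjNormal_apply]
      exact Subgroup.Normal.conj_mem (H := L) inferInstance _ (show ((l : K) : G) ∈ L from hl) _)
    have hmove : CU * psi ρ h * proj ρ K (a : K →* ℂˣ) = proj ρ K b⁻¹ * (CU * psi ρ h) := by
      rw [mul_assoc, psi_mul_proj ρ K (h : G), ← hb, ← mul_assoc, hCUproj ⟨b, hbd⟩, mul_assoc]
    split_ifs with ha1
    · subst ha1
      have hb1 : b⁻¹ = 1 := by
        refine MonoidHom.ext fun k => ?_
        simp [hb]
      have habs : CU * proj ρ K 1 = proj ρ K 1 := by
        refine LinearMap.ext fun A => ?_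
        set Y := proj ρ K 1 A with hY
        have hYk : ∀ k : K, Commute (ρ (k : G)) Y := by
          intro k
          have e : psi ρ (k : G) * proj ρ K 1 = proj ρ K 1 := by
            rw [proj, Finset.mul_sum]
            refine Fintype.sum_equiv (Equiv.mulLeft k) _ _ fun j => ?_
            simp [psi_mul]
          have e1 := LinearMap.congr_fun e A
          rw [Module.End.mul_apply, ← hY, psi, sandwich_apply] at e1
          show ρ (k : G) * Y = Y * ρ (k : G)
          conv_rhs => rw [← e1, mul_assoc, mul_assoc, ← map_mul, inv_mul_cancel, map_one, mul_one]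
        have hUY : Commute U Y := by
          rw [hUdef, phi_apply]
          exact (Commute.sum_left _ _ _ fun k _ => (hYk k).smul_left _).smul_left _
        show U * (Y * U) = Y
        rw [← hUY.eq, ← mul_assoc, hUsq, one_mul]
      rw [OneMemClass.coe_one] at hmove ⊢
      rw [hmove, hb1, ← mul_assoc, ← show CU * proj ρ K 1 = proj ρ K 1 * CU by
        have := hCUproj 1
        rwa [OneMemClass.coe_one, show (1 : K →* ℂˣ)⁻¹ = 1 from MonoidHom.ext fun k => inv_one] at this, habs, proj, Finset.sum_mul, map_sum]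
      refine Finset.sum_congr rfl fun k _ => ?_
      rw [MonoidHom.one_apply, Units.val_one, one_smul, psi_mul, trace_psi]
    · have hne : (a : K →* ℂˣ) ≠ b⁻¹ := by
        intro he
        apply ha1
        refine Subtype.ext (MonoidHom.ext fun k => ?_)
        show (a : K →* ℂˣ) k = 1
        have h1 : ∀ x : K, (a : K →* ℂˣ) ((MulAut.conjNormal (h : G)⁻¹ : MulAut K) x) =
            ((a : K →* ℂˣ) x)⁻¹ := fun x => by
          have := DFunLike.congr_fun he x
          rw [MonoidHom.inv_apply] at this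
          rw [this, inv_inv]
          rfl
        have h2 : ∀ i : ℕ, (a : K →* ℂˣ) (((MulAut.conjNormal (h : G)⁻¹ : MulAut K) ^ (2 * i + 1)) k) =
            ((a : K →* ℂˣ) k)⁻¹ := by
          intro i
          induction i with
          | zero => rw [mul_zero, zero_add, pow_one]; exact h1 k
          | succ i ih =>
            rw [show 2 * (i + 1) + 1 = (2 * i + 1) + 1 + 1 by ring, pow_succ', pow_succ',
              MulAut.mul_apply, MulAut.mul_apply, h1, h1, inv_inv, ih]
        obtain ⟨i, hi⟩ := hodd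
        have h3 := h2 i
        rw [← hi, ← map_pow, pow_card_eq_one', map_one, MulAut.one_apply, eq_inv_iff_mul_eq_one] at h3
        have h4 : (a : K →* ℂˣ) k ^ Nat.card G = 1 := by
          rw [← map_pow, show k ^ Nat.card G = 1 from Subtype.ext (by simp [pow_card_eq_one']),
            map_one]
        rw [hi, pow_succ, pow_mul, pow_two, h3, one_pow, one_mul] at h4
        exact h4
      have e : (Fintype.card K : ℂ) * LinearMap.trace ℂ (X →ₗ[ℂ] X)
          (CU * psi ρ h * proj ρ K (a : K →* ℂˣ)) = 0 := by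
        rw [← smul_eq_mul, ← map_smul, ← mul_smul_comm, ← proj_sq, ← mul_assoc,
          LinearMap.trace_mul_comm, hmove, ← mul_assoc, proj_mul_of_ne ρ K hne, zero_mul, map_zero]
      exact (mul_eq_zero.mp e).resolve_left (Nat.cast_ne_zero.mpr Fintype.card_ne_zero)
  have hmain : (Fintype.card K : ℂ) * ∑ h : H, LinearMap.trace ℂ (X →ₗ[ℂ] X) (CU * psi ρ h) =
      ∑ h : H, ∑ k : K, ρ.character ((k : G) * h) * ρ.character ((k : G) * h)⁻¹ := by
    have e1 : (Fintype.card K : ℂ) • (CU * ∑ h : H, psi ρ h) =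
        ∑ a : dual (L.subgroupOf K), ∑ h : H, CU * psi ρ h * proj ρ K (a : K →* ℂˣ) := by
      rw [← hDL, ← smul_smul, ← mul_smul_comm, ← hP0H, ← mul_smul_comm, ← mul_smul_comm, ← hsum,
        Finset.mul_sum, Finset.mul_sum]
      refine Finset.sum_congr rfl fun a _ => ?_
      rw [Finset.sum_mul, Finset.mul_sum]
      simp only [mul_assoc]
    have e2 := congrArg (LinearMap.trace ℂ (X →ₗ[ℂ] X)) e1
    simp only [map_smul, smul_eq_mul, Finset.mul_sum, map_sum, hpsi_k] at e2
    rw [Finset.mul_sum, e2, Finset.sum_comm]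
    exact Finset.sum_congr rfl fun h _ => by rw [Finset.sum_ite_eq', if_pos (Finset.mem_univ _)]
  have hcount : ∀ F : G → ℂ, (Fintype.card G : ℂ) * ∑ h : H, ∑ k : K, F ((k : G) * h) =
      (Fintype.card H * Fintype.card K : ℕ) * ∑ g : G, F g := by
    intro F
    have h1 : ∀ g : G, ∑ h : H, ∑ k : K, F ((k : G) * g * h) = ∑ h : H, ∑ k : K, F ((k : G) * h) := by
      intro g
      obtain ⟨k₀, hk₀, h₀, hh₀, rfl⟩ := hgen g
      refine Fintype.sum_equiv (Equiv.mulLeft (⟨h₀, hh₀⟩ : H)) _ _ fun h => ?_
      refine Fintype.sum_equiv (Equiv.mulRight (⟨k₀, hk₀⟩ : K)) _ _ fun k => ?_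
      simp [mul_assoc]
    have h2 : ∑ g : G, ∑ h : H, ∑ k : K, F ((k : G) * g * h) =
        (Fintype.card G : ℂ) * ∑ h : H, ∑ k : K, F ((k : G) * h) := by
      rw [Finset.sum_congr rfl fun g _ => h1 g, Finset.sum_const, Finset.card_univ, nsmul_eq_mul]
    rw [← h2, Finset.sum_comm]
    have h3 : ∀ h : H, ∑ g : G, ∑ k : K, F ((k : G) * g * h) =
        (Fintype.card K : ℂ) * ∑ g : G, F g := by
      intro h
      rw [Finset.sum_comm]
      have h4 : ∀ k : K, ∑ g : G, F ((k : G) * g * h) = ∑ g : G, F g := fun k =>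
        Fintype.sum_equiv ((Equiv.mulLeft (k : G)).trans (Equiv.mulRight (h : G))) _ _ fun g => rfl
      rw [Finset.sum_congr rfl fun k _ => h4 k, Finset.sum_const, Finset.card_univ, nsmul_eq_mul]
    rw [Finset.sum_congr rfl fun h _ => h3 h, Finset.sum_const, Finset.card_univ, nsmul_eq_mul,
      ← mul_assoc, Nat.cast_mul]
  simp only [CharCore.classInner_def, Nat.card_eq_fintype_card]
  rw [Finset.sum_congr rfl fun h _ => hterm h]
  have hconj : ∀ g, conj (ρ.character g) = ρ.character g⁻¹ := fun g =>
    (CharCore.IsCharacter.apply_inv ⟨nX, ρ, rfl⟩ g).symm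
  simp only [hconj]
  have hc1 := hcount (fun g => ρ.character g * ρ.character g⁻¹)
  rw [← hmain] at hc1
  have hK0 : (Fintype.card K : ℂ) ≠ 0 := Nat.cast_ne_zero.mpr Fintype.card_ne_zero
  have hH0 : (Fintype.card H : ℂ) ≠ 0 := Nat.cast_ne_zero.mpr Fintype.card_ne_zero
  have hG0 : (Fintype.card G : ℂ) ≠ 0 := Nat.cast_ne_zero.mpr Fintype.card_ne_zero
  push_cast at hc1
  field_simp
  refine mul_left_cancel₀ hK0 ?_
  linear_combination hc1

end Cfsg.Agent.BlkChar.OddCorr
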