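import Cfsg.Agent.BlkChar.OddCorr.Phi
import Mathlib.RingTheory.RootsOfUnity.EnoughRootsOfUnity
import Mathlib.GroupTheory.FiniteAbelian.Duality
import Mathlib.Analysis.Complex.Polynomial.Basic
import Mathlib.RingTheory.RootsOfUnity.AlgebraicallyClosed

/-!
# Eigenoperators for an abelian factor group

Endomorphisms of the space of an irreducible representation on which conjugation by the group acts
through a linear character trivial on a normal subgroup.
-/

namespace Cfsg.Agent.BlkChar.OddCorr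

open Module
open scoped commutatorElement

variable {K : Type*} [Group K]
  {W : Type*} [AddCommGroup W] [Module ℂ W]
  (φ : Representation ℂ K W) (L : Subgroup K)

/-- Conjugation acts on `A` through `lam`. -/
def IsEigen (lam : K →* ℂˣ) (A : W →ₗ[ℂ] W) : Prop := ∀ k, φ k * A = (lam k : ℂ) • (A * φ k)

/-- The linear characters trivial on `L`. -/
def dual : Subgroup (K →* ℂˣ) where
  carrier := {lam | ∀ l ∈ L, lam l = 1}
  one_mem' := fun _ _ => rfl
  mul_mem' := fun {a b} ha hb l hl => by rw [MonoidHom.mul_apply, ha l hl, hb l hl, one_mul]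
  inv_mem' := fun {a} ha l hl => by rw [MonoidHom.inv_apply, ha l hl, inv_one]

theorem mem_dual {lam : K →* ℂˣ} : lam ∈ dual L ↔ ∀ l ∈ L, lam l = 1 := Iff.rfl

variable {φ L}

theorem IsEigen.one : IsEigen φ 1 1 := fun k => by simp

theorem IsEigen.mul {a b : K →* ℂˣ} {A B : W →ₗ[ℂ] W} (hA : IsEigen φ a A) (hB : IsEigen φ b B) :
    IsEigen φ (a * b) (A * B) := fun k => by
  rw [← mul_assoc, hA k, smul_mul_assoc, mul_assoc, hB k, mul_smul_comm, smul_smul, ← mul_assoc,
    MonoidHom.mul_apply, Units.val_mul]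

theorem IsEigen.smul {a : K →* ℂˣ} {A : W →ₗ[ℂ] W} (hA : IsEigen φ a A) (c : ℂ) :
    IsEigen φ a (c • A) := fun k => by
  rw [mul_smul_comm, hA k, smul_mul_assoc, smul_comm]

theorem IsEigen.inv {a : K →* ℂˣ} {u : (W →ₗ[ℂ] W)ˣ} (hu : IsEigen φ a u) :
    IsEigen φ a⁻¹ (↑u⁻¹ : W →ₗ[ℂ] W) := fun k => by
  have h := congrArg (fun f => (↑u⁻¹ : W →ₗ[ℂ] W) * f * (↑u⁻¹ : W →ₗ[ℂ] W)) (hu k)
  simp only [mul_assoc, Units.mul_inv, mul_one, mul_smul_comm, smul_mul_assoc,
    Units.inv_mul_cancel_left] at h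
  rw [h, smul_smul, MonoidHom.inv_apply, Units.val_inv_eq_inv_val, inv_mul_cancel₀ (Units.ne_zero _),
    one_smul]

theorem IsEigen.pow {a : K →* ℂˣ} {A : W →ₗ[ℂ] W} (hA : IsEigen φ a A) (n : ℕ) :
    IsEigen φ (a ^ n) (A ^ n) := by
  induction n with
  | zero =>
    rw [show a ^ 0 = 1 from MonoidHom.ext fun k => by simp, pow_zero]
    exact IsEigen.one
  | succ n ih =>
    rw [show a ^ (n + 1) = a ^ n * a from MonoidHom.ext fun k => by simp [pow_succ], pow_succ]
    exact ih.mul hA

/-- Eigenoperators for characters trivial on `L` commute with `L`. -/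
theorem IsEigen.commute {a : K →* ℂˣ} (ha : a ∈ dual L) {A : W →ₗ[ℂ] W} (hA : IsEigen φ a A)
    {l : K} (hl : l ∈ L) : Commute A (φ l) := by
  have h := hA l
  rw [ha l hl, Units.val_one, one_smul] at h
  exact h.symm

theorem IsEigen.unique [Nontrivial W] {a b : K →* ℂˣ} {u : (W →ₗ[ℂ] W)ˣ} (h1 : IsEigen φ a u)
    (h2 : IsEigen φ b u) : a = b := by
  refine MonoidHom.ext fun k => Units.ext ?_
  have hne : (u : W →ₗ[ℂ] W) * φ k ≠ 0 :=
    (u.isUnit.mul ((Group.isUnit k).map φ)).ne_zero
  exact smul_left_injective ℂ hne ((h1 k).symm.trans (h2 k))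

variable [FiniteDimensional ℂ W] [φ.IsIrreducible]

theorem IsEigen.isUnit {a : K →* ℂˣ} {A : W →ₗ[ℂ] W} (hA : IsEigen φ a A) (h0 : A ≠ 0) :
    IsUnit A := by
  let S : Subrepresentation φ :=
    { toSubmodule := LinearMap.ker A
      apply_mem_toSubmodule := fun k v (hv : A v = 0) => by
        show A (φ k v) = 0
        have h := LinearMap.congr_fun (hA k) v
        simp only [Module.End.mul_apply, hv, map_zero, LinearMap.smul_apply] at h
        exact (smul_eq_zero.mp h.symm).resolve_left (Units.ne_zero _) }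
  rcases IsSimpleOrder.eq_bot_or_eq_top S with h | h
  · have h1 : LinearMap.ker A = ⊥ := congrArg Subrepresentation.toSubmodule h
    have h2 := LinearMap.ker_eq_bot.mp h1
    exact (Module.End.isUnit_iff A).mpr ⟨h2, LinearMap.injective_iff_surjective.mp h2⟩
  · exact absurd (LinearMap.ker_eq_top.mp (congrArg Subrepresentation.toSubmodule h)) h0

theorem nontrivial_of_irreducible (φ : Representation ℂ K W) [φ.IsIrreducible] : Nontrivial W :=
  Module.nontrivial_of_finrank_pos (R := ℂ) (CharClifford.finrank_pos_of_irreducible φ)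

theorem IsEigen.scalar {A : W →ₗ[ℂ] W} (hA : IsEigen φ 1 A) : ∃ c : ℂ, A = c • 1 := by
  refine CharClifford.exists_scalar_of_commute φ A fun k => ?_
  have h := hA k
  rw [MonoidHom.one_apply, Units.val_one, one_smul] at h
  exact h.symm

section Fin

variable [Finite K]

theorem pow_card_eq_one_hom (a : K →* ℂˣ) : a ^ Nat.card K = 1 :=
  MonoidHom.ext fun k => by
    rw [MonoidHom.pow_apply, ← map_pow, pow_card_eq_one', map_one, MonoidHom.one_apply]

omit [FiniteDimensional ℂ W] [φ.IsIrreducible] in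
instance finite_hom : Finite (K →* ℂˣ) := by
  haveI : NeZero (Nat.card K) := ⟨Nat.card_pos.ne'⟩
  refine Finite.of_injective (fun a : K →* ℂˣ => fun k : K =>
    (⟨a k, by
      rw [mem_rootsOfUnity, ← map_pow, pow_card_eq_one', map_one]⟩ :
        rootsOfUnity (Nat.card K) ℂ)) fun a b h => MonoidHom.ext fun k => ?_
  exact congrArg Subtype.val (congrFun h k)

omit [FiniteDimensional ℂ W] [φ.IsIrreducible] in
/-- Characters trivial on `L` separate the cosets. -/
theorem exists_dual_ne_one [L.Normal] (hab : ∀ a b : K, ⁅a, b⁆ ∈ L) {k : K} (hk : k ∉ L) :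
    ∃ lam ∈ dual L, lam k ≠ 1 := by
  letI : CommGroup (K ⧸ L) :=
    { (inferInstance : Group (K ⧸ L)) with
      mul_comm := fun x y => by
        obtain ⟨a, rfl⟩ := QuotientGroup.mk_surjective x
        obtain ⟨b, rfl⟩ := QuotientGroup.mk_surjective y
        rw [← QuotientGroup.mk_mul, ← QuotientGroup.mk_mul, QuotientGroup.eq]
        have := hab b⁻¹ a⁻¹
        simpa [commutatorElement_def, mul_assoc] using this }
  haveI : NeZero (Monoid.exponent (K ⧸ L) : ℂ) :=
    ⟨Nat.cast_ne_zero.mpr Monoid.exponent_ne_zero_of_finite⟩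
  obtain ⟨f, hf⟩ := CommGroup.exists_apply_ne_one_of_hasEnoughRootsOfUnity (K ⧸ L) ℂ
    (a := (k : K ⧸ L)) (fun h => hk ((QuotientGroup.eq_one_iff k).mp h))
  exact ⟨f.comp (QuotientGroup.mk' L), fun l hl => by
    rw [MonoidHom.comp_apply, QuotientGroup.mk'_apply, (QuotientGroup.eq_one_iff l).mpr hl, map_one],
    hf⟩

omit [FiniteDimensional ℂ W] [φ.IsIrreducible] in
/-- Orthogonality of the characters of the factor group. -/
theorem sum_dual [L.Normal] [Fintype (dual L)] (hab : ∀ a b : K, ⁅a, b⁆ ∈ L) (k : K)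
    [Decidable (k ∈ L)] :
    ∑ lam : dual L, ((lam : K →* ℂˣ) k : ℂ) = if k ∈ L then (Fintype.card (dual L) : ℂ) else 0 := by
  split_ifs with hk
  · rw [Finset.sum_congr rfl fun lam _ => by rw [lam.2 k hk, Units.val_one], Finset.sum_const,
      nsmul_eq_mul, mul_one, Finset.card_univ]
  · obtain ⟨mu, hmu, hne⟩ := exists_dual_ne_one hab hk
    set s := ∑ lam : dual L, ((lam : K →* ℂˣ) k : ℂ) with hs
    have h : (mu k : ℂ) * s = s := by
      rw [hs, Finset.mul_sum]
      exact Fintype.sum_equiv (Equiv.mulLeft (⟨mu, hmu⟩ : dual L)) _ _ fun lam => by simp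
    by_contra h0
    exact hne (Units.ext ((mul_eq_right₀ h0).mp h))

omit [φ.IsIrreducible] [FiniteDimensional ℂ W] in
/-- An operator commuting with all eigenoperators commutes with all operators commuting with `L`. -/
theorem commute_of_commute_eigen [Fintype K] [L.Normal] (hab : ∀ a b : K, ⁅a, b⁆ ∈ L)
    {Z : W →ₗ[ℂ] W} (hZ : ∀ lam ∈ dual L, ∀ A, IsEigen φ lam A → Commute Z A)
    {B : W →ₗ[ℂ] W} (hB : ∀ l ∈ L, Commute B (φ l)) : Commute Z B := by
  classical
  haveI := Fintype.ofFinite (dual L)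
  set T : dual L → (W →ₗ[ℂ] W) := fun lam =>
    ∑ k : K, ((lam : K →* ℂˣ) k⁻¹ : ℂ) • (φ k * B * φ k⁻¹) with hT
  have hTe : ∀ lam : dual L, IsEigen φ (lam : K →* ℂˣ) (T lam) := by
    intro lam g
    simp only [hT, Finset.mul_sum, Finset.sum_mul, Finset.smul_sum]
    refine Fintype.sum_equiv (Equiv.mulLeft g) _ _ fun k => ?_
    simp only [Equiv.coe_mulLeft, smul_mul_assoc, mul_smul_comm, smul_smul, map_inv, map_mul,
      mul_inv_rev]
    congr 1
    · rw [Units.val_mul, Units.val_inv_eq_inv_val, Units.val_inv_eq_inv_val]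
      field_simp
    · simp only [mul_assoc, ← map_mul, inv_mul_cancel, mul_one]
      simp only [map_mul, mul_assoc]
  have hsum : ∑ lam, T lam = ((Fintype.card (dual L) * Fintype.card L : ℕ) : ℂ) • B := by
    simp only [hT]
    rw [Finset.sum_comm]
    simp only [← Finset.sum_smul, sum_dual hab, ite_smul, zero_smul]
    rw [← Finset.sum_filter]
    have h1 : ∀ k ∈ Finset.univ.filter (fun k : K => k⁻¹ ∈ L),
        (Fintype.card (dual L) : ℂ) • (φ k * B * φ k⁻¹) = (Fintype.card (dual L) : ℂ) • B := by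
      intro k hk
      have hk' : k ∈ L := inv_mem_iff.mp (Finset.mem_filter.mp hk).2
      rw [← (hB k hk').eq, mul_assoc, ← map_mul, mul_inv_cancel, map_one, mul_one]
    rw [Finset.sum_congr rfl h1, Finset.sum_const, ← Nat.cast_smul_eq_nsmul ℂ, smul_smul,
      ← Nat.cast_mul, mul_comm, show (Finset.univ.filter fun k : K => k⁻¹ ∈ L) =
        Finset.univ.filter (fun k : K => k ∈ L) by ext k; simp, ← Fintype.card_subtype]
  have h2 : Commute Z (((Fintype.card (dual L) * Fintype.card L : ℕ) : ℂ) • B) :=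
    hsum ▸ Commute.sum_right _ _ _ fun lam _ => hZ _ lam.2 _ (hTe lam)
  have h0 : ((Fintype.card (dual L) * Fintype.card L : ℕ) : ℂ) ≠ 0 :=
    Nat.cast_ne_zero.mpr (mul_ne_zero Fintype.card_ne_zero Fintype.card_ne_zero)
  simpa [smul_smul, inv_mul_cancel₀ h0] using h2.smul_right
    ((((Fintype.card (dual L) * Fintype.card L : ℕ) : ℂ))⁻¹)

end Fin

section Commutant

variable {Y : Type*} [AddCommGroup Y] [Module ℂ Y] [FiniteDimensional ℂ Y] [Fintype L]
  {θ : Representation ℂ L Y} [θ.IsIrreducible] {e : ℂ}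
  (hres : ∀ l : L, φ.character l = e * θ.character l)

include hres

omit [Fintype L] [θ.IsIrreducible] in
theorem mult_ne_zero : e ≠ 0 := by
  intro h
  have h1 := hres 1
  rw [OneMemClass.coe_one, φ.char_one, θ.char_one, h, zero_mul, Nat.cast_eq_zero] at h1
  exact (CharClifford.finrank_pos_of_irreducible φ).ne' h1

/-- Double commutant: an operator commuting with the commutant of `L` is a combination of `L`. -/
theorem eq_sum_of_commute {Z : W →ₗ[ℂ] W}
    (hZ : ∀ B, (∀ l ∈ L, Commute B (φ l)) → Commute Z B) :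
    ∃ a : L → ℂ, Z = ∑ l : L, a l • φ l := by
  set c : ℂ := e * ((Fintype.card L : ℂ) / finrank ℂ Y) with hc
  have hc0 : c ≠ 0 := mul_ne_zero (mult_ne_zero hres) (div_ne_zero (card_ne) (finrank_ne θ))
  let ρ : Representation ℂ L W := φ.comp L.subtype
  have hZ0 : ∑ l : L, φ.character (l : K)⁻¹ • φ l = c • 1 := by
    have h := phi_one (φ := θ) (ρ := ρ) (m := e) hres
    rw [phi_apply] at h
    simp only [one_mul] at h
    have h' : ∑ l : L, θ.character l⁻¹ • φ l = ((Fintype.card L : ℂ) / finrank ℂ Y) • 1 := by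
      rw [← h, smul_smul, div_mul_div_cancel₀ (finrank_ne θ), div_self card_ne, one_smul]
      rfl
    rw [hc, ← smul_smul, ← h', Finset.smul_sum]
    exact Finset.sum_congr rfl fun l _ => by rw [smul_smul, ← hres]; simp
  refine ⟨fun l => c⁻¹ * LinearMap.trace ℂ W (φ (l : K)⁻¹ * Z), ?_⟩
  simp only [← smul_smul, ← Finset.smul_sum]
  rw [eq_inv_smul_iff₀ hc0]
  refine LinearMap.ext fun x => ?_
  let b := Module.finBasis ℂ W
  have hX : ∀ i, ∑ l : L, b.coord i (φ (l : K)⁻¹ (b i)) • Z (φ l x) =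
      ∑ l : L, b.coord i (φ (l : K)⁻¹ (Z (b i))) • φ l x := by
    intro i
    have h := hZ (∑ l : L, φ l * (b.coord i).smulRight x * φ (l : K)⁻¹) fun g hg => by
      show _ * _ = _ * _
      rw [Finset.sum_mul, Finset.mul_sum]
      refine Fintype.sum_equiv (Equiv.mulLeft (⟨g, hg⟩ : L)⁻¹) _ _ fun l => ?_
      simp only [Equiv.coe_mulLeft, Subgroup.coe_mul, Subgroup.coe_inv, mul_inv_rev, inv_inv,
        ← mul_assoc, ← map_mul, mul_inv_cancel, one_mul]
      simp only [mul_assoc, ← map_mul]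
    have h1 := LinearMap.congr_fun h.eq (b i)
    simpa only [Module.End.mul_apply, LinearMap.sum_apply, map_sum, LinearMap.smulRight_apply,
      map_smul] using h1
  have h0 := LinearMap.congr_fun hZ0 x
  simp only [Representation.character, LinearMap.sum_apply, LinearMap.smul_apply,
    Module.End.one_apply] at h0
  rw [LinearMap.smul_apply, ← map_smul, ← h0, map_sum, LinearMap.sum_apply]
  simp only [LinearMap.smul_apply, trace_eq_sum_coord b, Finset.sum_smul,
    Module.End.mul_apply, map_sum, map_smul, LinearMap.sum_apply]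
  rw [Finset.sum_comm, Finset.sum_congr rfl fun i _ => hX i, Finset.sum_comm]

/-- The centre of the commutant of `L` is scalar. -/
theorem scalar_of_center {Z : W →ₗ[ℂ] W} (hZL : ∀ l ∈ L, Commute Z (φ l))
    (hZ : ∀ B, (∀ l ∈ L, Commute B (φ l)) → Commute Z B) : ∃ c : ℂ, Z = c • 1 := by
  obtain ⟨a, ha⟩ := eq_sum_of_commute hres hZ
  let ρ : Representation ℂ L W := φ.comp L.subtype
  set A := ∑ l : L, a l • θ l with hA
  have hA' : phi θ ρ A = Z := by
    rw [hA, map_sum, ha]
    exact Finset.sum_congr rfl fun l _ => by rw [map_smul, phi_rep hres]; rfl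
  have h := congrArg (phi θ ρ) (sum_conj_eq θ A)
  rw [map_sum, map_smul, phi_one hres] at h
  have h1 : ∀ l : L, phi θ ρ (θ l * A * θ l⁻¹) = Z := by
    intro l
    rw [phi_mul hres, phi_mul hres, hA', phi_rep hres, phi_rep hres]
    show φ l * Z * φ (l : K)⁻¹ = Z
    rw [← (hZL _ l.2).eq, mul_assoc, ← map_mul, mul_inv_cancel, map_one, mul_one]
  rw [Finset.sum_congr rfl fun l _ => h1 l, Finset.sum_const, Finset.card_univ,
    ← Nat.cast_smul_eq_nsmul ℂ, ← eq_inv_smul_iff₀ card_ne, smul_smul] at h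
  exact ⟨_, h⟩

end Commutant

end Cfsg.Agent.BlkChar.OddCorr
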