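import Cfsg.Agent.BlkChar.OddCorr.Eigen
import Cfsg.Agent.CharDeep.Ext.Clifford
import Cfsg.Agent.Lib.CharCore.InvariantOver
import Cfsg.Agent.Lib.CharClifford.Clifford
import Cfsg.Agent.Lib.Coprime.FixedPoint

/-!
# Characters over invariant characters under a coprime action

An automorphism of coprime order that fixes a complement-like subgroup pointwise fixes every
character over an invariant irreducible character; invariant characters over an invariant character
of an abelian section with trivial orbit products are unique.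
-/

namespace Cfsg.Agent.BlkChar.OddCorr

open Module
open scoped commutatorElement

/-- Two irreducible representations with characters matched by an automorphism have an invertible
intertwiner. -/
theorem exists_intertwiner {N : Type*} [Group N] [Fintype N] {Y : Type*} [AddCommGroup Y]
    [Module ℂ Y] [FiniteDimensional ℂ Y] (θ : Representation ℂ N Y) [θ.IsIrreducible] (σ : N ≃* N)
    (hσ : ∀ n, θ.character (σ n) = θ.character n) :
    ∃ T : (Y →ₗ[ℂ] Y)ˣ, ∀ n, (T : Y →ₗ[ℂ] Y) * θ n = θ (σ n) * T := by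
  classical
  let b := Module.finBasis ℂ Y
  set avg : (Y →ₗ[ℂ] Y) → (Y →ₗ[ℂ] Y) := fun B => ∑ n : N, θ (σ n) * B * θ n⁻¹ with havg
  have hint : ∀ B m, avg B * θ m = θ (σ m) * avg B := by
    intro B m
    simp only [havg, Finset.sum_mul, Finset.mul_sum]
    refine Fintype.sum_equiv (Equiv.mulLeft m⁻¹) _ _ fun n => ?_
    simp only [Equiv.coe_mulLeft, mul_inv_rev, inv_inv, ← mul_assoc, ← map_mul, mul_inv_cancel,
      one_mul]
    simp only [mul_assoc, ← map_mul, mul_inv_cancel_left]
  obtain ⟨B, hB⟩ : ∃ B, avg B ≠ 0 := by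
    by_contra hall
    push Not at hall
    have hx : ∀ x : Y, ∑ n : N, θ.character n⁻¹ • θ (σ n) x = 0 := by
      intro x
      have h : ∀ i, ∑ n : N, b.coord i (θ n⁻¹ (b i)) • θ (σ n) x = 0 := fun i => by
        have h1 := LinearMap.congr_fun (hall ((b.coord i).smulRight x)) (b i)
        simpa only [havg, Module.End.mul_apply, LinearMap.sum_apply, LinearMap.smulRight_apply,
          map_smul, LinearMap.zero_apply] using h1
      simp only [Representation.character, trace_eq_sum_coord b, Finset.sum_smul]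
      rw [Finset.sum_comm]
      exact Finset.sum_eq_zero fun i _ => h i
    have h0 : ∑ n : N, θ.character n⁻¹ • θ (σ n) = 0 :=
      LinearMap.ext fun x => by simpa using hx x
    have h1 := congrArg (LinearMap.trace ℂ Y) h0
    simp only [map_sum, map_smul, map_zero, smul_eq_mul] at h1
    rw [Finset.sum_congr rfl fun n _ => show θ.character n⁻¹ * LinearMap.trace ℂ Y (θ (σ n)) =
      θ.character n * θ.character n⁻¹ by rw [mul_comm, ← hσ n]; rfl,
      CharClifford.sum_character_mul_inv, Nat.cast_eq_zero] at h1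
    exact Nat.card_pos.ne' h1
  let S : Subrepresentation θ :=
    { toSubmodule := LinearMap.ker (avg B)
      apply_mem_toSubmodule := fun n v (hv : avg B v = 0) => by
        show avg B (θ n v) = 0
        have h := LinearMap.congr_fun (hint B n) v
        simp only [Module.End.mul_apply, hv, map_zero] at h
        exact h }
  rcases IsSimpleOrder.eq_bot_or_eq_top S with h | h
  · have h2 := LinearMap.ker_eq_bot.mp (congrArg Subrepresentation.toSubmodule h)
    obtain ⟨T, hT⟩ := (Module.End.isUnit_iff (avg B)).mpr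
      ⟨h2, LinearMap.injective_iff_surjective.mp h2⟩
    exact ⟨T, fun n => by rw [hT]; exact hint B n⟩
  · exact absurd (LinearMap.ker_eq_top.mp (congrArg Subrepresentation.toSubmodule h)) hB

/-- A character over an invariant irreducible character of a normal subgroup `N` with `G = N C`
is fixed by an automorphism of coprime order centralising `C`. -/
theorem fixed_of_over {G : Type*} [Group G] [Fintype G] (N : Subgroup G) [N.Normal] [Fintype N]
    (C : Subgroup G) (hgen : ∀ g : G, ∃ n ∈ N, ∃ c ∈ C, g = n * c)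
    (τ : MulAut G) (hτN : ∀ n ∈ N, τ n ∈ N) (hτC : ∀ c ∈ C, τ c = c)
    (hcop : (orderOf τ).Coprime (Nat.card G)) {θ : N → ℂ} (hθ : Cfsg.IsIrrCharacter N θ)
    (hθG : CharDeep.Ext.Inv N θ) (hθτ : ∀ n : N, θ ⟨τ n, hτN n n.2⟩ = θ n) {χ : G → ℂ}
    (hχ : Cfsg.IsCharacter G χ) (a : ℂ) (ha : a ≠ 0) (hres : ∀ n : N, χ n = a * θ n) :
    ∀ g, χ (τ g) = χ g := by
  classical
  obtain ⟨nY, θr, hirr, rfl⟩ := hθ
  obtain ⟨nX, ρ, rfl⟩ := hχ
  set Y := Fin nY → ℂ
  set X := Fin nX → ℂ
  let ρN : Representation ℂ N X := ρ.comp N.subtype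
  have hρN : ∀ n, ρN.character n = a * θr.character n := hres
  let σ₀ : N →* N :=
    { toFun := fun n => ⟨τ n, hτN n n.2⟩
      map_one' := Subtype.ext (map_one τ)
      map_mul' := fun x y => Subtype.ext (map_mul τ (x : G) y) }
  have hσ₀ : Function.Injective σ₀ := fun x y h =>
    Subtype.ext (τ.injective (congrArg Subtype.val h))
  let σ : N ≃* N := MulEquiv.ofBijective σ₀ (Finite.injective_iff_bijective.mp hσ₀)
  obtain ⟨T, hT⟩ := exists_intertwiner θr σ hθτ
  set U := phi θr ρN (T : Y →ₗ[ℂ] Y) with hU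
  set U' := phi θr ρN (↑T⁻¹ : Y →ₗ[ℂ] Y) with hU'
  have hUU' : U * U' = 1 := by rw [hU, hU', ← phi_mul hρN, Units.mul_inv, phi_one hρN]
  have hU'U : U' * U = 1 := by rw [hU, hU', ← phi_mul hρN, Units.inv_mul, phi_one hρN]
  have hUn : ∀ n : N, U * ρ (n : G) = ρ (τ n) * U := by
    intro n
    rw [show ρ (n : G) = ρN n from rfl, show ρ (τ (n : G)) = ρN (σ n) from rfl, ← phi_rep hρN,
      ← phi_rep hρN, hU, ← phi_mul hρN, ← phi_mul hρN, hT]
  have hU0 : U ≠ 0 := by
    intro h0
    have h2 := hρN 1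
    rw [θr.char_one, show ρN.character 1 = LinearMap.trace ℂ X (ρN 1) from rfl, map_one,
      ← hUU', h0, zero_mul, map_zero] at h2
    exact mul_ne_zero ha (finrank_ne θr) h2.symm
  set k := orderOf τ with hk
  have hk0 : 0 < k := orderOf_pos τ
  have hTk : ∀ (i : ℕ) (n : N),
      ((T : Y →ₗ[ℂ] Y) ^ i) * θr n = θr ((σ : N → N)^[i] n) * (T : Y →ₗ[ℂ] Y) ^ i := by
    intro i
    induction i with
    | zero => intro n; simp
    | succ i ih =>
      intro n
      rw [pow_succ, mul_assoc, hT, ← mul_assoc, ih, Function.iterate_succ_apply, mul_assoc]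
  have hσi : ∀ (i : ℕ) (n : N), ((((σ : N → N)^[i]) n : N) : G) = (τ ^ i) (n : G) := by
    intro i
    induction i with
    | zero => intro n; simp
    | succ i ih =>
      intro n
      rw [Function.iterate_succ_apply, ih, pow_succ, MulAut.mul_apply]
      rfl
  obtain ⟨z, hz⟩ := CharClifford.exists_scalar_of_commute θr ((T : Y →ₗ[ℂ] Y) ^ k) fun n => by
    show _ * _ = _ * _
    rw [hTk, show (σ : N → N)^[k] n = n from Subtype.ext (by
      rw [hσi, hk, pow_orderOf_eq_one, MulAut.one_apply])]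
  have hz0 : z ≠ 0 := by
    intro h
    rw [h, zero_smul, ← Units.val_pow_eq_pow_val] at hz
    haveI := nontrivial_of_irreducible θr
    exact (T ^ k).ne_zero hz
  have hUC : ∀ c ∈ C, U * ρ c = ρ c * U := by
    intro c hc
    let κ : MulAut N := MulAut.conjNormal c
    let θκ : Representation ℂ N Y := θr.comp κ.toMonoidHom
    have hκ : ∀ n, θκ.character n = 1 * θr.character n := fun n => by
      rw [one_mul]; exact hθG c n
    set γ := phi θr θκ with hγ
    have hγrep : ∀ n, γ (θr n) = θr (κ n) := fun n => phi_rep hκ n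
    have hγT : ∀ n, γ (T : Y →ₗ[ℂ] Y) * θr n = θr (σ n) * γ (T : Y →ₗ[ℂ] Y) := by
      intro n
      have h1 := congrArg γ (hT (κ.symm n))
      rw [phi_mul hκ, phi_mul hκ, hγrep, hγrep, κ.apply_symm_apply] at h1
      have h2 : κ (σ (κ.symm n)) = σ n := Subtype.ext (by
        show ((MulAut.conjNormal c (σ ((MulAut.conjNormal c : MulAut N).symm n)) : N) : G) = τ n
        rw [MulAut.conjNormal_apply]
        show c * τ (((MulAut.conjNormal c : MulAut N).symm n : N) : G) * c⁻¹ = τ n
        rw [MulAut.conjNormal_symm_apply, map_mul, map_mul, map_inv, hτC c hc]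
        group)
      rw [h2] at h1
      exact h1
    obtain ⟨μ, hμ⟩ := CharClifford.exists_scalar_of_commute θr
      ((↑T⁻¹ : Y →ₗ[ℂ] Y) * γ (T : Y →ₗ[ℂ] Y)) fun n => by
        show _ * _ = _ * _
        rw [mul_assoc, hγT, ← mul_assoc, ← mul_assoc]
        congr 1
        have h1 := congrArg (fun f => (↑T⁻¹ : Y →ₗ[ℂ] Y) * f * (↑T⁻¹ : Y →ₗ[ℂ] Y)) (hT n)
        simp only [← mul_assoc, Units.inv_mul, one_mul] at h1
        simp only [mul_assoc, Units.mul_inv, mul_one] at h1
        exact h1.symm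
    have hγT' : γ (T : Y →ₗ[ℂ] Y) = μ • (T : Y →ₗ[ℂ] Y) := by
      have := congrArg (fun f => (T : Y →ₗ[ℂ] Y) * f) hμ
      simpa [← mul_assoc] using this
    have hμk : μ ^ k = 1 := by
      have h1 : γ ((T : Y →ₗ[ℂ] Y) ^ k) = (γ (T : Y →ₗ[ℂ] Y)) ^ k := by
        let γh : (Y →ₗ[ℂ] Y) →* (Y →ₗ[ℂ] Y) :=
          { toFun := γ, map_one' := phi_one hκ, map_mul' := phi_mul hκ }
        exact map_pow γh _ _
      rw [hγT', smul_pow, hz, map_smul, phi_one hκ, smul_smul] at h1
      haveI := nontrivial_of_irreducible θr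
      have h2 := smul_left_injective ℂ (one_ne_zero (α := Y →ₗ[ℂ] Y)) h1
      exact (mul_eq_right₀ hz0).mp h2.symm
    have hconj : ρ c * U * ρ c⁻¹ = μ • U := by
      have h := LinearMap.congr_fun
        (f := ((LinearMap.mulLeft ℂ (ρ c)).comp (LinearMap.mulRight ℂ (ρ c⁻¹))).comp (phi θr ρN))
        (g := (phi θr ρN).comp γ)
        (ext_rep θr fun n => by
          simp only [LinearMap.comp_apply, LinearMap.mulLeft_apply, LinearMap.mulRight_apply]
          rw [hγrep, phi_rep hρN, phi_rep hρN]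
          show ρ c * (ρ (n : G) * ρ c⁻¹) = ρ ((MulAut.conjNormal c n : N) : G)
          rw [MulAut.conjNormal_apply, map_mul, map_mul, mul_assoc])
        (T : Y →ₗ[ℂ] Y)
      simp only [LinearMap.comp_apply, LinearMap.mulLeft_apply, LinearMap.mulRight_apply] at h
      rw [mul_assoc, hU, h, hγT', map_smul]
    have hμc : μ ^ orderOf c = 1 := by
      have hiter : ∀ i : ℕ, ρ (c ^ i) * U * ρ (c ^ i)⁻¹ = μ ^ i • U := by
        intro i
        induction i with
        | zero => simp
        | succ i ih =>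
          calc ρ (c ^ (i + 1)) * U * ρ (c ^ (i + 1))⁻¹
              = ρ c * (ρ (c ^ i) * U * ρ (c ^ i)⁻¹) * ρ c⁻¹ := by
                rw [pow_succ', mul_inv_rev, map_mul, map_mul]; simp only [mul_assoc]
            _ = _ := by rw [ih, mul_smul_comm, smul_mul_assoc, hconj, smul_smul, pow_succ]
      have h := hiter (orderOf c)
      rw [pow_orderOf_eq_one, inv_one, map_one, one_mul, mul_one] at h
      exact (smul_left_injective ℂ hU0 ((one_smul ℂ U).trans h)).symm
    have hμ1 : μ = 1 := by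
      have hd : (orderOf c).Coprime k :=
        Nat.Coprime.coprime_dvd_left (orderOf_dvd_natCard c) hcop.symm
      rw [← pow_one μ, ← hd.gcd_eq_one]
      exact (pow_gcd_eq_one).mpr ⟨hμc, hμk⟩
    rw [hμ1, one_smul] at hconj
    conv_lhs => rw [← hconj, mul_assoc, ← map_mul, inv_mul_cancel, map_one, mul_one]
  intro g
  obtain ⟨n, hn, c, hc, rfl⟩ := hgen g
  show LinearMap.trace ℂ X (ρ (τ (n * c))) = LinearMap.trace ℂ X (ρ (n * c))
  rw [map_mul τ, hτC c hc, map_mul ρ, map_mul ρ]
  have e : ρ (τ n) = U * ρ n * U' := by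
    rw [hUn ⟨n, hn⟩, mul_assoc, hUU', mul_one]
  have e2 : U' * ρ c = ρ c * U' := by
    calc U' * ρ c = U' * (ρ c * U) * U' := by
          rw [mul_assoc, mul_assoc, hUU', mul_one]
      _ = _ := by rw [← hUC c hc, ← mul_assoc, hU'U, one_mul]
  rw [e, mul_assoc, e2, ← mul_assoc, LinearMap.trace_mul_comm, ← mul_assoc, ← mul_assoc, hU'U,
    one_mul]

/-- Invariant characters over a common invariant character are equal. -/
theorem unique_inv_over {K : Type*} [Group K] [Fintype K] (L : Subgroup K) [L.Normal] [Fintype L]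
    (hab : commutator K ≤ L) {ι : Type*} [Fintype ι] (σ : ι → K ≃* K)
    (hcop : (Fintype.card ι).Coprime (Nat.card K))
    (hnorm : ∀ l ∈ dual L, ∀ x, ∏ s, (l : K →* ℂˣ) (σ s x) = 1)
    (φ φ' : Cfsg.IrrCharacter K) (θ : Cfsg.IrrCharacter L)
    (hφ : ∀ s x, (φ : K → ℂ) (σ s x) = (φ : K → ℂ) x)
    (hφ' : ∀ s x, (φ' : K → ℂ) (σ s x) = (φ' : K → ℂ) x)
    (h : Cfsg.classInner (fun m : L => (φ : K → ℂ) m) θ ≠ 0)
    (h' : Cfsg.classInner (fun m : L => (φ' : K → ℂ) m) θ ≠ 0) : φ = φ' := by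
  obtain ⟨l, hlL, hl⟩ := CharCore.exists_linear_of_common L hab φ φ' θ h h'
  refine Subtype.ext (funext fun x => ?_)
  rw [hl]
  by_cases hx : (φ : K → ℂ) x = 0
  · rw [hx, mul_zero]
  · have h1 : ∀ s, l (σ s x) = l x := fun s => by
      have h2 := hl (σ s x)
      rw [hφ', hφ, hl] at h2
      exact (Units.ext (mul_right_cancel₀ hx h2)).symm
    have h3 := hnorm l (fun y hy => hlL ⟨y, hy⟩) x
    rw [Finset.prod_congr rfl fun s _ => h1 s, Finset.prod_const, Finset.card_univ] at h3
    have h4 : l x ^ Nat.card K = 1 := by rw [← map_pow, pow_card_eq_one', map_one]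
    have h5 : l x = 1 := by
      rw [← pow_one (l x), ← hcop.gcd_eq_one]
      exact pow_gcd_eq_one.mpr ⟨h3, h4⟩
    rw [h5, Units.val_one, one_mul]

/-- An invariant constituent below. -/
theorem exists_inv_below {G A : Type*} [Group G] [Fintype G] [Group A] [Finite A]
    (act : A →* MulAut G) (N : Subgroup G) [N.Normal] [Fintype N]
    (hN : ∀ a, ∀ x ∈ N, act a x ∈ N) (hsol : Group.IsSolvable G)
    (hcop : (Nat.card A).Coprime (Nat.card G)) {χ : G → ℂ} (hχ : Cfsg.IsIrrCharacter G χ)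
    (hinv : ∀ a g, χ (act a g) = χ g) :
    ∃ θ : Cfsg.IrrCharacter N, Cfsg.classInner (fun n : N => χ n) θ ≠ 0 ∧
      ∀ a, ∀ n : N, (θ : N → ℂ) ⟨act a n, hN a n n.2⟩ = (θ : N → ℂ) n := by
  classical
  have hχc := CharCore.IsIrrCharacter.isCharacter hχ
  let X := {θ : Cfsg.IrrCharacter N // Cfsg.classInner (fun n : N => χ n) θ ≠ 0}
  let actN : A →* MulAut N := CharCore.restrictAut act N hN
  letI : MulAction G X :=
    { smul := fun g θ => ⟨⟨CharClifford.conjFun N g⁻¹ (θ.1 : N → ℂ),
          CharClifford.isIrrCharacter_conjFun N θ.1.2 g⁻¹⟩, by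
        show Cfsg.classInner _ (CharClifford.conjFun N g⁻¹ (θ.1 : N → ℂ)) ≠ 0
        rw [CharClifford.classInner_restrict_conjFun N (CharCore.IsCharacter.isClassFunction hχc)]
        exact θ.2⟩
      one_smul := fun θ => Subtype.ext (Subtype.ext (by
        show CharClifford.conjFun N 1⁻¹ (θ.1 : N → ℂ) = _
        rw [inv_one, CharClifford.conjFun_one]))
      mul_smul := fun g g' θ => Subtype.ext (Subtype.ext (by
        show CharClifford.conjFun N (g * g')⁻¹ (θ.1 : N → ℂ) =
          CharClifford.conjFun N g⁻¹ (CharClifford.conjFun N g'⁻¹ (θ.1 : N → ℂ))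
        rw [CharClifford.conjFun_conjFun, mul_inv_rev])) }
  letI : MulAction A X :=
    { smul := fun a θ => ⟨⟨fun n => (θ.1 : N → ℂ) (actN a⁻¹ n),
          CharCore.isIrrCharacter_comp_surjective θ.1.2 (actN a⁻¹).toMonoidHom
            (actN a⁻¹).surjective⟩, by
        show Cfsg.classInner (fun n : N => χ n) (fun n => (θ.1 : N → ℂ) (actN a⁻¹ n)) ≠ 0
        have : Cfsg.classInner (fun n : N => χ n) (fun n => (θ.1 : N → ℂ) (actN a⁻¹ n)) =
            Cfsg.classInner (fun n : N => χ n) (θ.1 : N → ℂ) := by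
          unfold Cfsg.classInner
          congr 1
          refine Fintype.sum_equiv (actN a⁻¹).toEquiv _ _ fun n => congrArg₂ (· * ·) ?_ rfl
          exact (hinv a⁻¹ n).symm
        rw [this]
        exact θ.2⟩
      one_smul := fun θ => Subtype.ext (Subtype.ext (funext fun n => by
        show (θ.1 : N → ℂ) (actN 1⁻¹ n) = _
        rw [inv_one, map_one, MulAut.one_apply]))
      mul_smul := fun a b θ => Subtype.ext (Subtype.ext (funext fun n => by
        show (θ.1 : N → ℂ) (actN (a * b)⁻¹ n) = (θ.1 : N → ℂ) (actN b⁻¹ (actN a⁻¹ n))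
        rw [mul_inv_rev, map_mul, MulAut.mul_apply])) }
  obtain ⟨θ₀, hθ₀⟩ := CharClifford.exists_constituent (CharCore.isCharacter_restrict hχc N) (by
    change χ ((1 : N) : G) ≠ 0
    rw [OneMemClass.coe_one]
    exact CharCore.irr_apply_one_ne_zero ⟨χ, hχ⟩)
  have hcompat : ∀ (a : A) (g : G) (x : X), a • g • x = act a g • a • x := by
    intro a g x
    refine Subtype.ext (Subtype.ext (funext fun n => congrArg (x.1 : N → ℂ) (Subtype.ext ?_)))
    show g⁻¹ * (act a⁻¹ (n : G)) * g⁻¹⁻¹ = act a⁻¹ ((act a g)⁻¹ * (n : G) * (act a g)⁻¹⁻¹)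
    rw [inv_inv, inv_inv, map_mul, map_mul, map_inv (act a⁻¹), ← MulAut.mul_apply, ← map_mul,
      inv_mul_cancel, map_one, MulAut.one_apply]
  have htr : MulAction.IsPretransitive G X := ⟨fun x y => by
    obtain ⟨g, hg⟩ := CharClifford.exists_conjFun_eq_of_constituents N hχ x.1.2 y.1.2 x.2 y.2
    refine ⟨g⁻¹, Subtype.ext (Subtype.ext ?_)⟩
    show CharClifford.conjFun N g⁻¹⁻¹ (x.1 : N → ℂ) = _
    rw [inv_inv, hg]⟩
  obtain ⟨θ, hθ⟩ := Coprime.exists_fixed_of_transitive act hcompat htr (⟨θ₀, hθ₀⟩ : X) hcop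
    (Or.inr hsol)
  refine ⟨θ.1, θ.2, fun a n => ?_⟩
  have h : (θ.1 : N → ℂ) (actN a⁻¹⁻¹ n) = (θ.1 : N → ℂ) n :=
    congrFun (congrArg (fun x : X => (x.1 : N → ℂ)) (hθ a⁻¹)) n
  rw [inv_inv] at h
  exact h

end Cfsg.Agent.BlkChar.OddCorr
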