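import Cfsg.Agent.Lib.CharCore.Complete
import Cfsg.Agent.Lib.CharInd.Char

/-!
# Odd multiplicities and differences of characters of norm one
-/

namespace Cfsg.Agent.BlkChar.OddCorr

open scoped ComplexConjugate

variable {H : Type*} [Group H] [Fintype H]

/-- The multiplicity of `ψ` in `χ` is odd. -/
def OddMult (χ ψ : H → ℂ) : Prop := ∃ m : ℕ, Cfsg.classInner χ ψ = (m : ℂ) ∧ Odd m

/-- If `r = a + b` and `a - b` has norm one then a single constituent of `r` has odd multiplicity,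
and `a - b` is that constituent up to sign. -/
theorem exists_unique_oddMult {r f a b : H → ℂ} (ha : Cfsg.IsCharacter H a)
    (hb : Cfsg.IsCharacter H b) (hr : r = a + b) (hf : f = a - b)
    (h1 : Cfsg.classInner f f = 1) :
    ∃ ψ : Cfsg.IrrCharacter H, OddMult r ψ ∧ (∀ ψ' : Cfsg.IrrCharacter H, OddMult r ψ' → ψ' = ψ) ∧
      ∃ ε : ℤ, ε * ε = 1 ∧ f = (ε : ℂ) • (ψ : H → ℂ) := by
  classical
  obtain ⟨p, hp⟩ := CharCore.IsCharacter.exists_sum ha
  obtain ⟨q, hq⟩ := CharCore.IsCharacter.exists_sum hb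
  set n : Cfsg.IrrCharacter H → ℤ := fun ψ => (p ψ : ℤ) - q ψ with hn
  have hfsum : f = ∑ ψ : Cfsg.IrrCharacter H, (n ψ : ℂ) • (ψ : H → ℂ) := by
    rw [hf, hp, hq, ← Finset.sum_sub_distrib]
    exact Finset.sum_congr rfl fun ψ _ => by
      rw [hn, ← sub_smul]; push_cast; rfl
  have hrm : ∀ ψ : Cfsg.IrrCharacter H, Cfsg.classInner r ψ = ((p ψ + q ψ : ℕ) : ℂ) := fun ψ => by
    rw [hr, CharCore.classInner_add_left, hp, hq, CharCore.classInner_sum_all,
      CharCore.classInner_sum_all]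
    push_cast
    rfl
  have hsq : ∑ ψ, n ψ * n ψ = 1 := by
    rw [hfsum, CharCore.classInner_sum_sum] at h1
    simp only [map_intCast] at h1
    exact_mod_cast h1
  have hiff : ∀ ψ : Cfsg.IrrCharacter H, OddMult r ψ ↔ Odd (n ψ) := by
    intro ψ
    constructor
    · rintro ⟨m, hm, hodd⟩
      rw [hrm, Nat.cast_inj] at hm
      subst hm
      have : n ψ = ((p ψ + q ψ : ℕ) : ℤ) - 2 * q ψ := by simp [hn]; ring
      rw [this, Int.odd_sub]
      simp only [Int.odd_coe_nat, hodd, true_iff, even_two.mul_right]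
    · intro h
      refine ⟨_, hrm ψ, ?_⟩
      have h2 : ((p ψ + q ψ : ℕ) : ℤ) = n ψ + 2 * q ψ := by simp [hn]; ring
      have h3 : Odd ((p ψ + q ψ : ℕ) : ℤ) := h2 ▸ h.add_even (even_two.mul_right _)
      exact (Int.odd_coe_nat _).mp h3
  obtain ⟨ψ, hψ⟩ : ∃ ψ, n ψ ≠ 0 := by
    by_contra h
    push Not at h
    simp [h] at hsq
  have hrest : ∀ ψ', ψ' ≠ ψ → n ψ' = 0 ∧ n ψ * n ψ = 1 := by
    intro ψ' hne
    rw [← Finset.add_sum_erase _ _ (Finset.mem_univ ψ)] at hsq
    have h2 : n ψ' * n ψ' ≤ ∑ x ∈ Finset.univ.erase ψ, n x * n x :=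
      Finset.single_le_sum (fun x _ => mul_self_nonneg (n x))
        (Finset.mem_erase.mpr ⟨hne, Finset.mem_univ _⟩)
    have h3 : 0 < n ψ * n ψ := mul_self_pos.mpr hψ
    have h4 := mul_self_nonneg (n ψ')
    exact ⟨mul_self_eq_zero.mp (by omega), by omega⟩
  have hψ1 : n ψ * n ψ = 1 := by
    rw [Finset.sum_eq_single ψ] at hsq
    · exact hsq
    · exact fun b _ hb => by rw [(hrest b hb).1, mul_zero]
    · exact fun h => absurd (Finset.mem_univ _) h
  refine ⟨ψ, (hiff ψ).mpr ?_, fun ψ' h => ?_, n ψ, hψ1, ?_⟩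
  · rcases Int.eq_one_or_neg_one_of_mul_eq_one hψ1 with h | h <;> rw [h]
    · exact odd_one
    · exact odd_neg_one
  · by_contra hne
    have h' := (hiff ψ').mp h
    rw [(hrest ψ' hne).1] at h'
    exact (Int.not_odd_zero h').elim
  · rw [hfsum]
    exact Finset.sum_eq_single ψ (fun b _ hb => by rw [(hrest b hb).1, Int.cast_zero, zero_smul])
      (fun h => absurd (Finset.mem_univ _) h)

omit [Fintype H] in
/-- Signed copies of a norm one function cannot have sum of norm two. -/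
theorem classInner_signed_ne_two [Fintype H] {ψ : H → ℂ} (hψ : Cfsg.classInner ψ ψ = 1) {ε δ : ℤ}
    (hε : ε * ε = 1) (hδ : δ * δ = 1) :
    Cfsg.classInner ((ε : ℂ) • ψ + (δ : ℂ) • ψ) ((ε : ℂ) • ψ + (δ : ℂ) • ψ) ≠ 2 := by
  rw [← add_smul, CharCore.classInner_smul_left, CharCore.classInner_smul_right, hψ, mul_one,
    map_add, map_intCast, map_intCast]
  rcases Int.eq_one_or_neg_one_of_mul_eq_one hε with rfl | rfl <;>
    rcases Int.eq_one_or_neg_one_of_mul_eq_one hδ with rfl | rfl <;> norm_num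

end Cfsg.Agent.BlkChar.OddCorr
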