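import Cfsg.Agent.BlkChar.OddCorr.Invol
import Cfsg.Agent.BlkChar.OddCorr.Core
import Cfsg.Agent.BlkChar.OddCorr.Over
import Cfsg.Agent.BlkChar.OddCorr.Parity

/-!
# The odd multiplicity correspondence over an invariant character
-/

namespace Cfsg.Agent.BlkChar.OddCorr

open Module
open scoped commutatorElement ComplexConjugate

/-- A coprime action on a group of odd order with an abelian section `K / L`, fixed points `C`,
`G = K C`, `H = L C`, and trivial orbit products on `K / L`. -/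
structure Section (G A : Type*) [Group G] [Group A] [Fintype A] where
  /-- The action. -/
  act : A →* MulAut G
  /-- The top of the section. -/
  K : Subgroup G
  /-- The bottom of the section. -/
  L : Subgroup G
  /-- Fixed points. -/
  C : Subgroup G
  /-- The target. -/
  H : Subgroup G
  nK : K.Normal
  nL : L.Normal
  hLK : L ≤ K
  hC : ∀ a, ∀ c ∈ C, act a c = c
  hH : H = L ⊔ C
  hgen : ∀ g : G, ∃ k ∈ K, ∃ c ∈ C, g = k * c
  hHK : ∀ x ∈ H, x ∈ K → x ∈ L
  hK : ∀ a, ∀ x ∈ K, act a x ∈ K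
  hL : ∀ a, ∀ x ∈ L, act a x ∈ L
  hab : ∀ x ∈ K, ∀ y ∈ K, ⁅x, y⁆ ∈ L
  hnorm : ∀ l : K →* ℂˣ, (∀ x : K, (x : G) ∈ L → l x = 1) →
    ∀ x : K, ∏ a, l ⟨act a x, hK a x x.2⟩ = 1
  hcop : (Nat.card A).Coprime (Nat.card G)
  hodd : Odd (Nat.card G)
  hsol : Group.IsSolvable G

variable {G A : Type*} [Group G] [Fintype G] [Group A] [Fintype A] (D : Section G A)

/-- Invariance under the action of a function on `G`. -/
def Section.InvG (χ : G → ℂ) : Prop := ∀ a g, χ (D.act a g) = χ g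

theorem Section.le_H : D.L ≤ D.H := D.hH ▸ le_sup_left

theorem Section.hH_mem (a : A) (x : G) (hx : x ∈ D.H) : D.act a x ∈ D.H := by
  have hle : D.H.map (D.act a).toMonoidHom ≤ D.H := by
    rw [D.hH, Subgroup.map_sup]
    refine sup_le_sup ?_ ?_
    · rintro _ ⟨y, hy, rfl⟩; exact D.hL a y hy
    · rintro _ ⟨y, hy, rfl⟩
      show D.act a y ∈ D.C
      rw [D.hC a y hy]; exact hy
  exact hle ⟨x, hx, rfl⟩

/-- Invariance under the action of a function on `H`. -/
def Section.InvH (ψ : D.H → ℂ) : Prop :=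
  ∀ a, ∀ h : D.H, ψ ⟨D.act a h, D.hH_mem a h h.2⟩ = ψ h

theorem Section.card_eq [Fintype D.H] :
    Nat.card G * Nat.card D.L = Nat.card D.H * Nat.card D.K := by
  haveI := D.nK
  have htop : D.H ⊔ D.K = ⊤ := by
    rw [eq_top_iff]
    intro g _
    obtain ⟨k, hk, c, hc, rfl⟩ := D.hgen g
    exact mul_mem (Subgroup.mem_sup_right hk)
      (Subgroup.mem_sup_left (D.hH ▸ Subgroup.mem_sup_right hc))
  have h1 : D.K.relIndex D.H = D.K.index := by
    rw [← Subgroup.relIndex_sup_right, htop, Subgroup.relIndex_top_right]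
  have h2 : D.K.subgroupOf D.H = D.L.subgroupOf D.H := by
    ext x
    simp only [Subgroup.mem_subgroupOf]
    exact ⟨fun h => D.hHK x x.2 h, fun h => D.hLK h⟩
  have h3 : Nat.card D.H = Nat.card D.L * D.K.index := by
    rw [← h1, Subgroup.relIndex, ← (D.K.subgroupOf D.H).card_mul_index, h2,
      Nat.card_congr (Subgroup.subgroupOfEquivOfLe D.le_H).toEquiv]
  rw [h3, ← D.K.card_mul_index]
  ring

/-- Constituents below a multiple of an irreducible character. -/
theorem restrict_eq_of_constituent {M : Subgroup G} [Fintype M] {N : Subgroup G} [N.Normal]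
    [Fintype N] (hNM : N ≤ M) {χ : G → ℂ} (hχ : Cfsg.IsCharacter G χ) {θ : Cfsg.IrrCharacter N}
    (hθ : CharDeep.Ext.Inv N (θ : N → ℂ)) {a : ℂ} (hres : ∀ n : N, χ n = a * (θ : N → ℂ) n)
    (ξ : Cfsg.IrrCharacter M) (hξ : Cfsg.classInner (fun x : M => χ x) ξ ≠ 0) :
    ∃ b : ℕ, b ≠ 0 ∧ ∀ n : N, (ξ : M → ℂ) (Subgroup.inclusion hNM n) = b * (θ : N → ℂ) n := by
  classical
  have hξc : Cfsg.IsCharacter N (fun n : N => (ξ : M → ℂ) (Subgroup.inclusion hNM n)) :=
    CharCore.isCharacter_comp (CharCore.irr_isCharacter ξ) _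
  obtain ⟨p, hp⟩ := CharCore.IsCharacter.exists_sum hξc
  have hzero : ∀ θ' : Cfsg.IrrCharacter N, θ' ≠ θ → p θ' = 0 := by
    intro θ' hne
    by_contra hp0
    have h := CharCore.classInner_comp_ne_zero M.subtype (Subgroup.inclusion hNM) hχ ξ θ' hξ (by
      rw [show (fun l => (ξ : M → ℂ) (Subgroup.inclusion hNM l)) = _ from hp,
        CharCore.classInner_sum_all, Nat.cast_ne_zero]
      exact hp0)
    apply h
    rw [show (fun l : N => χ (M.subtype (Subgroup.inclusion hNM l))) = a • (θ : N → ℂ) from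
      funext fun n => hres n, CharCore.classInner_smul_left,
      CharCore.classInner_irr_of_ne (Ne.symm hne), mul_zero]
  refine ⟨p θ, fun h0 => ?_, fun n => ?_⟩
  · have h1 := congrFun hp 1
    simp only [map_one] at h1
    apply CharCore.irr_apply_one_ne_zero ξ
    rw [h1, Finset.sum_apply]
    refine Finset.sum_eq_zero fun θ' _ => ?_
    by_cases h : θ' = θ
    · subst h; simp [h0]
    · simp [hzero θ' h]
  · have h1 := congrFun hp n
    rw [h1, Finset.sum_apply, Finset.sum_eq_single θ]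
    · rfl
    · intro b _ hb; simp [hzero b hb]
    · exact fun h => absurd (Finset.mem_univ _) h

/-- A multiplicity between irreducible characters of a group of odd order is odd if the restriction
is isotypic. -/
theorem odd_mult {M : Type*} [Group M] [Finite M] {N : Type*} [Group N] [Finite N] {ξ : M → ℂ}
    (hξ : Cfsg.IsIrrCharacter M ξ) (hodd : Odd (Nat.card M)) {θ : N → ℂ}
    (hθ : Cfsg.IsIrrCharacter N θ) {b : ℕ} (h : ξ 1 = b * θ 1) : Odd b := by
  obtain ⟨d, -, hdvd, hd⟩ := CharClifford.exists_degree_dvd_card hξ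
  obtain ⟨e, he⟩ := CharCore.IsIrrCharacter.exists_degree hθ
  rw [hd, he.2] at h
  have h2 : d = b * e := by exact_mod_cast h
  exact (Odd.of_dvd_nat hodd hdvd |> fun ho => (Nat.odd_mul.mp (h2 ▸ ho)).1)

/-- The correspondence over an invariant character of the bottom of the section. -/
theorem inv_case [Fintype D.H] [Fintype D.L] (θ : Cfsg.IrrCharacter D.L)
    (hθG : haveI := D.nL; CharDeep.Ext.Inv D.L (θ : D.L → ℂ))
    (hθA : ∀ a, ∀ l : D.L, (θ : D.L → ℂ) ⟨D.act a l, D.hL a l l.2⟩ = (θ : D.L → ℂ) l) :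
    (∀ χ : Cfsg.IrrCharacter G, D.InvG χ → Cfsg.classInner (fun l : D.L => (χ : G → ℂ) l) θ ≠ 0 →
      ∃ ψ : Cfsg.IrrCharacter D.H, D.InvH ψ ∧ OddMult (fun h : D.H => (χ : G → ℂ) h) ψ ∧
        ∀ ψ' : Cfsg.IrrCharacter D.H, OddMult (fun h : D.H => (χ : G → ℂ) h) ψ' → ψ' = ψ) ∧
    (∀ χ χ' : Cfsg.IrrCharacter G, D.InvG χ → D.InvG χ' →
      Cfsg.classInner (fun l : D.L => (χ : G → ℂ) l) θ ≠ 0 →
      Cfsg.classInner (fun l : D.L => (χ' : G → ℂ) l) θ ≠ 0 → ∀ ψ : Cfsg.IrrCharacter D.H,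
      OddMult (fun h : D.H => (χ : G → ℂ) h) ψ → OddMult (fun h : D.H => (χ' : G → ℂ) h) ψ →
        χ = χ') ∧
    (∀ ψ : Cfsg.IrrCharacter D.H,
      Cfsg.classInner (fun l : D.L => (ψ : D.H → ℂ) (Subgroup.inclusion D.le_H l)) θ ≠ 0 →
      ∃ χ : Cfsg.IrrCharacter G, D.InvG χ ∧ Cfsg.classInner (fun l : D.L => (χ : G → ℂ) l) θ ≠ 0 ∧
        OddMult (fun h : D.H => (χ : G → ℂ) h) ψ) := by
  classical
  haveI := D.nK
  haveI := D.nL
  letI := Fintype.ofFinite D.K
  set L' := D.L.subgroupOf D.K with hL'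
  haveI : L'.Normal := Subgroup.normal_subgroupOf
  letI := Fintype.ofFinite L'
  let e : L' ≃* D.L := Subgroup.subgroupOfEquivOfLe D.hLK
  let ξ : Cfsg.IrrCharacter L' :=
    ⟨_, CharCore.isIrrCharacter_comp_surjective θ.2 e.toMonoidHom e.surjective⟩
  have hξval : ∀ x : L', (ξ : L' → ℂ) x = (θ : D.L → ℂ) (e x) := fun _ => rfl
  have hinner : ∀ f : D.L → ℂ, Cfsg.classInner (fun x : L' => f (e x)) ξ =
      Cfsg.classInner f (θ : D.L → ℂ) := by
    intro f
    unfold Cfsg.classInner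
    rw [Nat.card_congr e.toEquiv]
    congr 1
    exact Fintype.sum_equiv e.toEquiv _ _ fun x => rfl
  let actK : A →* MulAut D.K := CharCore.restrictAut D.act D.K D.hK
  have habK : ∀ x y : D.K, ⁅x, y⁆ ∈ L' := fun x y => D.hab x x.2 y y.2
  have hcomm : commutator D.K ≤ L' := by
    rw [commutator_def, Subgroup.commutator_le]
    exact fun x _ y _ => habK x y
  have hcopK : (Fintype.card A).Coprime (Nat.card D.K) := by
    rw [← Nat.card_eq_fintype_card]
    exact D.hcop.coprime_dvd_right (Subgroup.card_subgroup_dvd_card D.K)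
  obtain ⟨φ, hφA, hφξ⟩ := CharCore.exists_inv_over_of_commutator_le L' actK hcomm
    (fun a x hx => D.hL a _ hx)
    ((D.hcop.symm.coprime_dvd_left ((L'.index_dvd_card).trans (Subgroup.card_subgroup_dvd_card D.K))))
    ξ (fun a x y hy => by
      rw [hξval, hξval, show e y = ⟨D.act a (e x), D.hL a _ (e x).2⟩ from
        Subtype.ext (congrArg (Subtype.val : D.K → G) hy)]
      exact hθA a (e x))
  have hnormK : ∀ l ∈ dual L', ∀ x, ∏ a, (l : D.K →* ℂˣ) (actK a x) = 1 :=
    fun l hl x => D.hnorm l (fun y hy => hl y hy) x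
  have hφuniq : ∀ φ' : Cfsg.IrrCharacter D.K, (∀ a x, (φ' : D.K → ℂ) (actK a x) = (φ' : D.K → ℂ) x) →
      Cfsg.classInner (fun x : L' => (φ' : D.K → ℂ) x) ξ ≠ 0 → φ' = φ := fun φ' h h' =>
    unique_inv_over L' hcomm (fun a => actK a) hcopK hnormK φ' φ ξ h hφA h' hφξ
  have hξinv : CharDeep.Ext.Inv L' (ξ : L' → ℂ) := by
    intro k x
    rw [hξval, hξval]
    exact (congrArg (θ : D.L → ℂ) (Subtype.ext rfl)).trans (hθG (k : G) (e x))
  have hφC : ∀ c ∈ D.C, ∀ x : D.K,
      (φ : D.K → ℂ) ((MulAut.conjNormal c : MulAut D.K) x) = (φ : D.K → ℂ) x := by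
    intro c hc x
    let φc : Cfsg.IrrCharacter D.K :=
      ⟨_, CharClifford.isIrrCharacter_conjFun D.K φ.2 c⟩
    have h : φc = φ := by
      refine hφuniq φc (fun a y => ?_) ?_
      · show (φ : D.K → ℂ) _ = (φ : D.K → ℂ) ⟨c * y * c⁻¹, _⟩
        rw [← hφA a ⟨c * y * c⁻¹, D.nK.conj_mem y y.2 c⟩]
        refine congrArg (φ : D.K → ℂ) (Subtype.ext ?_)
        show c * D.act a y * c⁻¹ = D.act a (c * y * c⁻¹)
        rw [map_mul, map_mul, map_inv, D.hC a c hc]
      · have : Cfsg.classInner (fun x : L' => (φc : D.K → ℂ) x) ξ =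
            Cfsg.classInner (fun x : L' => (φ : D.K → ℂ) x) ξ := by
          let γ : L' ≃* L' := (e.trans (MulAut.conjNormal c : MulAut D.L)).trans e.symm
          unfold Cfsg.classInner
          congr 1
          refine Fintype.sum_equiv γ.toEquiv _ _ fun x => congrArg₂ (· * ·) ?_ (congrArg conj ?_)
          · exact congrArg (φ : D.K → ℂ) (Subtype.ext rfl)
          · rw [hξval, hξval, ← hθG c (e x)]
            exact congrArg (θ : D.L → ℂ) (Subtype.ext rfl)
        rw [this]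
        exact hφξ
    exact congrFun (congrArg Subtype.val h) x
  have hφG : CharDeep.Ext.Inv D.K (φ : D.K → ℂ) := by
    intro g x
    obtain ⟨k, hk, c, hc, rfl⟩ := D.hgen g
    have h1 := CharCore.irr_isClassFunction φ
      ((MulAut.conjNormal c : MulAut D.K) x) ⟨k, hk⟩
    rw [hφC c hc] at h1
    rw [← h1]
    exact congrArg (φ : D.K → ℂ) (Subtype.ext (by simp [mul_assoc]))
  obtain ⟨eN, heN⟩ := CharCore.IsCharacter.exists_classInner_irr_eq_natCast
    (CharCore.isCharacter_restrict (CharCore.irr_isCharacter φ) L') ξ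
  have hφres : ∀ x : L', (φ : D.K → ℂ) x = eN * (ξ : L' → ℂ) x := by
    intro x
    rw [← heN]
    exact congrFun (CharDeep.Ext.restrict_eq_smul L' hξinv ξ.2 φ.2 hφξ) x
  have heN0 : (eN : ℂ) ≠ 0 := heN ▸ hφξ
  have heodd : Odd eN :=
    odd_mult φ.2 (Odd.of_dvd_nat D.hodd (Subgroup.card_subgroup_dvd_card D.K)) ξ.2 (hφres 1)
  -- the involution
  obtain ⟨nW, φr, hirr, hφr⟩ := φ.2
  obtain ⟨nY, θr, hθirr, hθr⟩ := ξ.2
  have hchar : ∀ x, φr.character x = (φ : D.K → ℂ) x := congrFun hφr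
  have hres : ∀ l : L', φr.character l = (eN : ℂ) * θr.character l := fun l => by
    rw [hchar, congrFun hθr l]; exact hφres l
  obtain ⟨u, hu, huL, huk, huα⟩ := exists_invol φr L' habK θr (eN : ℂ) hres
    (Odd.of_dvd_nat D.hodd (Subgroup.card_subgroup_dvd_card D.K)) (fun a => actK a) hcopK
    (fun a l hl => D.hL a _ hl) (fun a x => by rw [hchar, hchar, hφA a x])
    (fun l hl x => by
      rw [← hnormK l hl x]
      refine Fintype.prod_equiv (Equiv.inv A) _ _ fun a => ?_
      rw [Equiv.inv_apply, map_inv]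
      rfl)
  have huC : ∀ c ∈ D.C,
      phi φr (φr.comp (MulAut.conjNormal c : MulAut D.K).toMonoidHom) u = u := by
    intro c hc
    refine huα _ (fun x => by rw [hchar, hchar, hφC c hc]) (fun l hl => ?_) (fun a x => ?_)
    · show ((MulAut.conjNormal c l : D.K) : G) ∈ D.L
      rw [MulAut.conjNormal_apply]
      exact D.nL.conj_mem _ hl c
    · refine Subtype.ext ?_
      show c * D.act a x * c⁻¹ = D.act a (c * x * c⁻¹)
      rw [map_mul, map_mul, map_inv, D.hC a c hc]
  have hgenH : ∀ g : G, ∃ k ∈ D.K, ∃ h ∈ D.H, g = k * h := fun g => by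
    obtain ⟨k, hk, c, hc, h⟩ := D.hgen g
    exact ⟨k, hk, c, D.hH ▸ Subgroup.mem_sup_right hc, h⟩
  have hmain : ∀ χ : G → ℂ, Cfsg.IsCharacter G χ → ∀ m : ℂ,
      (∀ k : D.K, χ k = m * (φ : D.K → ℂ) k) →
      ∃ a b : D.H → ℂ, Cfsg.IsCharacter D.H a ∧ Cfsg.IsCharacter D.H b ∧
        (fun h : D.H => χ h) = a + b ∧ signed D.K D.H φr u χ = a - b ∧
        Cfsg.classInner (signed D.K D.H φr u χ) (signed D.K D.H φr u χ) = Cfsg.classInner χ χ :=
    fun χ hχ m hm => exists_signed D.K D.L D.C D.H D.hLK D.hH hgenH habK D.hodd φr u hu huL huk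
      (fun c hc x => by rw [hchar, hchar, hφC c hc]) huC hχ m (fun k => by rw [hchar]; exact hm k)
  -- characters over θ
  have hχφ : ∀ χ : Cfsg.IrrCharacter G, D.InvG χ →
      Cfsg.classInner (fun l : D.L => (χ : G → ℂ) l) θ ≠ 0 →
      ∃ m : ℂ, ∀ k : D.K, (χ : G → ℂ) k = m * (φ : D.K → ℂ) k := by
    intro χ hχA hχθ
    obtain ⟨φ', hφ', hφ'A⟩ := exists_inv_below D.act D.K D.hK D.hsol D.hcop χ.2 hχA
    obtain ⟨b, hb, hb'⟩ := restrict_eq_of_constituent D.hLK (CharCore.irr_isCharacter χ) hθG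
      (fun n => congrFun (CharDeep.Ext.restrict_eq_smul D.L hθG θ.2 χ.2 hχθ) n) φ' hφ'
    have h : φ' = φ := by
      refine hφuniq φ' hφ'A ?_
      rw [show (fun x : L' => (φ' : D.K → ℂ) x) = (b : ℂ) • (ξ : L' → ℂ) from
        funext fun x => hb' (e x), CharCore.classInner_smul_left, CharCore.classInner_irr_self,
        mul_one]
      exact Nat.cast_ne_zero.mpr hb
    rw [h] at hφ'
    exact ⟨_, fun k => congrFun (CharDeep.Ext.restrict_eq_smul D.K hφG φ.2 χ.2 hφ') k⟩
  have hfix : ∀ ψ : Cfsg.IrrCharacter D.H, (∃ b : ℕ, b ≠ 0 ∧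
      ∀ l : D.L, (ψ : D.H → ℂ) (Subgroup.inclusion D.le_H l) = b * (θ : D.L → ℂ) l) →
      D.InvH ψ := by
    rintro ψ ⟨b, hb, hres⟩ a h
    let eH : D.L.subgroupOf D.H ≃* D.L := Subgroup.subgroupOfEquivOfLe D.le_H
    haveI : (D.L.subgroupOf D.H).Normal := Subgroup.normal_subgroupOf
    letI := Fintype.ofFinite (D.L.subgroupOf D.H)
    let τ : MulAut D.H := CharCore.restrictAut D.act D.H (fun a x hx => D.hH_mem a x hx) a
    refine fixed_of_over (D.L.subgroupOf D.H) (D.C.subgroupOf D.H) (fun g => ?_) τ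
      (fun x hx => D.hL a _ hx) (fun c hc => Subtype.ext (D.hC a _ hc)) ?_
      (θ := fun x => (θ : D.L → ℂ) (eH x))
      (CharCore.isIrrCharacter_comp_surjective θ.2 eH.toMonoidHom eH.surjective)
      (fun g x => (congrArg (θ : D.L → ℂ) (Subtype.ext rfl)).trans (hθG (g : G) (eH x)))
      (fun x => (congrArg (θ : D.L → ℂ) (Subtype.ext rfl)).trans (hθA a (eH x)))
      (CharCore.irr_isCharacter ψ) b (Nat.cast_ne_zero.mpr hb)
      (fun x => hres (eH x)) h
    · obtain ⟨g, hg⟩ := g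
      have hg' : g ∈ D.L ⊔ D.C := D.hH ▸ hg
      obtain ⟨l, hl, c, hc, rfl⟩ := Subgroup.mem_sup_of_normal_left.mp hg'
      exact ⟨⟨l, D.le_H hl⟩, hl, ⟨c, D.hH ▸ Subgroup.mem_sup_right hc⟩, hc, rfl⟩
    · exact ((D.hcop.coprime_dvd_right (Subgroup.card_subgroup_dvd_card D.H)).coprime_dvd_left
        (((orderOf_map_dvd (CharCore.restrictAut D.act D.H
          (fun a x hx => D.hH_mem a x hx)) a)).trans (orderOf_dvd_natCard a)))
  refine ⟨fun χ hχA hχθ => ?_, fun χ χ' hχA hχ'A hχθ hχ'θ ψ h h' => ?_, fun ψ hψθ => ?_⟩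
  · obtain ⟨m, hm⟩ := hχφ χ hχA hχθ
    obtain ⟨a, b, ha, hb, hab, hf, hn⟩ := hmain χ (CharCore.irr_isCharacter χ) m hm
    rw [CharCore.classInner_irr_self] at hn
    obtain ⟨ψ, hψ, huniq, -⟩ := exists_unique_oddMult ha hb hab hf hn
    refine ⟨ψ, hfix ψ ?_, hψ, huniq⟩
    refine restrict_eq_of_constituent D.le_H (CharCore.irr_isCharacter χ) hθG
      (fun n => congrFun (CharDeep.Ext.restrict_eq_smul D.L hθG θ.2 χ.2 hχθ) n) ψ ?_
    obtain ⟨k, hk, hko⟩ := hψ
    rw [hk]
    exact Nat.cast_ne_zero.mpr hko.pos.ne'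
  · obtain ⟨m, hm⟩ := hχφ χ hχA hχθ
    obtain ⟨m', hm'⟩ := hχφ χ' hχ'A hχ'θ
    obtain ⟨a, b, ha, hb, hab, hf, hn⟩ := hmain χ (CharCore.irr_isCharacter χ) m hm
    obtain ⟨a', b', ha', hb', hab', hf', hn'⟩ := hmain χ' (CharCore.irr_isCharacter χ') m' hm'
    rw [CharCore.classInner_irr_self] at hn hn'
    obtain ⟨ψ₁, -, hu₁, ε, hε, hfε⟩ := exists_unique_oddMult ha hb hab hf hn
    obtain ⟨ψ₂, -, hu₂, δ, hδ, hfδ⟩ := exists_unique_oddMult ha' hb' hab' hf' hn'
    rw [← hu₁ ψ h] at hfε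
    rw [← hu₂ ψ h'] at hfδ
    by_contra hne
    obtain ⟨-, -, -, -, -, -, hN⟩ := hmain ((χ : G → ℂ) + (χ' : G → ℂ))
      (CharCore.isCharacter_add (CharCore.irr_isCharacter χ) (CharCore.irr_isCharacter χ'))
      (m + m') (fun k => by rw [Pi.add_apply, hm, hm', add_mul])
    rw [signed_add, hfε, hfδ, CharCore.classInner_add_left (χ : G → ℂ),
      CharCore.classInner_add_right (χ : G → ℂ), CharCore.classInner_add_right (χ' : G → ℂ),
      CharCore.classInner_irr_self,
      CharCore.classInner_irr_self, CharCore.classInner_irr_of_ne hne,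
      CharCore.classInner_irr_of_ne (Ne.symm hne)] at hN
    exact classInner_signed_ne_two (CharCore.classInner_irr_self ψ) hε hδ (by rw [hN]; norm_num)
  · have hψres : ∃ b : ℕ, b ≠ 0 ∧
        ∀ l : D.L, (ψ : D.H → ℂ) (Subgroup.inclusion D.le_H l) = b * (θ : D.L → ℂ) l := by
      haveI : (D.L.subgroupOf D.H).Normal := Subgroup.normal_subgroupOf
      letI := Fintype.ofFinite (D.L.subgroupOf D.H)
      let eH : D.L.subgroupOf D.H ≃* D.L := Subgroup.subgroupOfEquivOfLe D.le_H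
      have hne : Cfsg.classInner (fun x : D.L.subgroupOf D.H => (ψ : D.H → ℂ) x)
          (fun x => (θ : D.L → ℂ) (eH x)) ≠ 0 := by
        intro h0
        apply hψθ
        refine Eq.trans ?_ h0
        unfold Cfsg.classInner
        rw [Nat.card_congr eH.toEquiv]
        congr 1
        exact (Fintype.sum_equiv eH.toEquiv _ _ fun x => rfl).symm
      obtain ⟨b, hb⟩ := CharCore.IsCharacter.exists_classInner_eq_natCast
        (CharCore.isCharacter_restrict (CharCore.irr_isCharacter ψ) (D.L.subgroupOf D.H))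
        (CharCore.isCharacter_comp (CharCore.irr_isCharacter θ) eH.toMonoidHom)
      refine ⟨b, fun h0 => hne (hb.trans (by rw [h0, Nat.cast_zero])), fun l => ?_⟩
      obtain ⟨l', rfl⟩ := eH.surjective l
      rw [← hb]
      exact congrFun (CharDeep.Ext.restrict_eq_smul (D.L.subgroupOf D.H)
        (fun g x => (congrArg (θ : D.L → ℂ) (Subtype.ext rfl)).trans (hθG (g : G) (eH x)))
        (CharCore.isIrrCharacter_comp_surjective θ.2 eH.toMonoidHom eH.surjective) ψ.2 hne) l'
    obtain ⟨b, hb0, hb⟩ := hψres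
    have hbodd : Odd b :=
      odd_mult ψ.2 (Odd.of_dvd_nat D.hodd (Subgroup.card_subgroup_dvd_card D.H)) θ.2
        (by simpa using hb 1)
    -- the multiplicity of `φ` in the induced character
    have hindK : ∀ k : D.K, Cfsg.indFun D.H (ψ : D.H → ℂ) k =
        if (k : G) ∈ D.L then (Nat.card D.H : ℂ)⁻¹ * Nat.card G * b *
          (if h : (k : G) ∈ D.L then (θ : D.L → ℂ) ⟨k, h⟩ else 0) else 0 := by
      intro k
      rw [CharInd.indFun_apply]
      split_ifs with hk
      · have hterm : ∀ x : G, Cfsg.extendByZero D.H (ψ : D.H → ℂ) (x⁻¹ * k * x) =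
            b * (θ : D.L → ℂ) ⟨k, hk⟩ := by
          intro x
          have hx : x⁻¹ * (k : G) * x ∈ D.L := by
            simpa using D.nL.conj_mem _ hk x⁻¹
          rw [CharInd.extendByZero_mem _ (D.le_H hx)]
          refine (hb ⟨_, hx⟩).trans (congrArg _ ?_)
          rw [← hθG x⁻¹ ⟨k, hk⟩]
          exact congrArg (θ : D.L → ℂ) (Subtype.ext (by simp))
        rw [Finset.sum_congr rfl fun x _ => hterm x, Finset.sum_const, Finset.card_univ,
          nsmul_eq_mul]
        simp only [Nat.card_eq_fintype_card]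
        ring
      · rw [Finset.sum_eq_zero, mul_zero]
        intro x _
        refine CharInd.extendByZero_notMem _ fun hm => hk ?_
        have hmK : x⁻¹ * (k : G) * x ∈ D.K := by simpa using D.nK.conj_mem _ k.2 x⁻¹
        simpa [mul_assoc] using D.nL.conj_mem _ (D.hHK _ hm hmK) x
    have hindinner : Cfsg.classInner (fun k : D.K => Cfsg.indFun D.H (ψ : D.H → ℂ) k)
        (φ : D.K → ℂ) = ((b * eN : ℕ) : ℂ) := by
      unfold Cfsg.classInner
      simp only [hindK, ite_mul, zero_mul]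
      rw [← Finset.sum_filter, Finset.sum_subtype (p := fun k : D.K => k ∈ L') _ (fun k => by
        simp [hL', Subgroup.mem_subgroupOf])]
      have hterm : ∀ x : L', (Nat.card D.H : ℂ)⁻¹ * Nat.card G * b *
          (if h : ((x : D.K) : G) ∈ D.L then (θ : D.L → ℂ) ⟨((x : D.K) : G), h⟩ else 0) *
            conj ((φ : D.K → ℂ) x) =
          (Nat.card D.H : ℂ)⁻¹ * Nat.card G * b * eN * ((ξ : L' → ℂ) x * conj ((ξ : L' → ℂ) x)) := by
        intro x
        rw [dif_pos (show ((x : D.K) : G) ∈ D.L from x.2), hφres, map_mul, map_natCast]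
        show _ * _ * _ * (ξ : L' → ℂ) x * _ = _
        ring
      rw [Finset.sum_congr rfl fun x _ => hterm x, ← Finset.mul_sum]
      have h1 := CharCore.classInner_irr_self ξ
      rw [CharCore.classInner_def, inv_mul_eq_iff_eq_mul₀ (Nat.cast_ne_zero.mpr Nat.card_pos.ne'),
        mul_one] at h1
      rw [h1, Nat.card_congr e.toEquiv]
      have hcard := congrArg (fun n : ℕ => (n : ℂ)) D.card_eq
      push_cast at hcard
      have hH0 : (Nat.card D.H : ℂ) ≠ 0 := Nat.cast_ne_zero.mpr Nat.card_pos.ne'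
      have hK0 : (Nat.card D.K : ℂ) ≠ 0 := Nat.cast_ne_zero.mpr Nat.card_pos.ne'
      push_cast
      field_simp
      linear_combination hcard
    obtain ⟨n, hn⟩ := CharCore.IsCharacter.exists_sum
      (CharInd.isCharacter_indFun D.H (CharCore.irr_isCharacter ψ))
    choose mK hmK using fun χ : Cfsg.IrrCharacter G =>
      CharCore.IsCharacter.exists_classInner_irr_eq_natCast
        (CharCore.isCharacter_restrict (CharCore.irr_isCharacter χ) D.K) φ
    have hsum : b * eN = ∑ χ : Cfsg.IrrCharacter G, n χ * mK χ := by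
      apply Nat.cast_injective (R := ℂ)
      rw [← hindinner, show (fun k : D.K => Cfsg.indFun D.H (ψ : D.H → ℂ) k) =
        ∑ χ : Cfsg.IrrCharacter G, (n χ : ℂ) • fun k : D.K => (χ : G → ℂ) k from
          funext fun k => by simp [hn, Finset.sum_apply], CharCore.classInner_sum_left,
        Nat.cast_sum]
      exact Finset.sum_congr rfl fun χ _ => by
        rw [CharCore.classInner_smul_left, hmK, Nat.cast_mul]
    obtain ⟨χ, -, hχodd⟩ : ∃ χ ∈ (Finset.univ : Finset (Cfsg.IrrCharacter G)), Odd (n χ * mK χ) := by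
      by_contra hall
      push Not at hall
      refine Nat.not_odd_iff_even.mpr ?_ (hbodd.mul heodd)
      rw [hsum]
      exact Finset.even_sum _ fun χ hχ => Nat.not_odd_iff_even.mp (hall χ hχ)
    have hn' := (Nat.odd_mul.mp hχodd).1
    have hm' := (Nat.odd_mul.mp hχodd).2
    have hχK : Cfsg.classInner (fun k : D.K => (χ : G → ℂ) k) φ ≠ 0 := by
      rw [hmK]; exact Nat.cast_ne_zero.mpr hm'.pos.ne'
    have hχres := congrFun (CharDeep.Ext.restrict_eq_smul D.K hφG φ.2 χ.2 hχK)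
    refine ⟨χ, fun a g => ?_, ?_, n χ, ?_, hn'⟩
    · refine fixed_of_over D.K D.C D.hgen (D.act a) (D.hK a) (D.hC a) ?_ φ.2 hφG
        (fun x => hφA a x) (CharCore.irr_isCharacter χ) _ hχK (fun x => hχres x) g
      exact (D.hcop.coprime_dvd_left ((orderOf_map_dvd D.act a).trans (orderOf_dvd_natCard a)))
    · intro h0
      apply mul_ne_zero hχK heN0
      rw [← hinner] at h0
      rw [← h0, show (fun x : L' => (fun l : D.L => (χ : G → ℂ) l) (e x)) =
        (Cfsg.classInner (fun k : D.K => (χ : G → ℂ) k) φ * eN) • (ξ : L' → ℂ) from funext fun x => by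
          rw [Pi.smul_apply, smul_eq_mul, mul_assoc, ← hφres x]
          exact hχres (x : D.K), CharCore.classInner_smul_left, CharCore.classInner_irr_self, mul_one]
    · rw [← CharInd.classInner_indFun_right D.H (ψ : D.H → ℂ) (CharCore.irr_isClassFunction χ),
        ← CharCore.conj_classInner, hn, CharCore.classInner_sum_all, map_natCast]

end Cfsg.Agent.BlkChar.OddCorr
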