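import Cfsg.Agent.BlkChar.OddCorr.Eigen
import Cfsg.Agent.BlkChar.OddCorr.Baer

/-!
# A canonical involution in the commutant

For a group `K` of odd order with abelian factor group `K ⧸ L`, an irreducible representation whose
restriction to `L` is isotypic, and a coprime family of automorphisms with trivial orbit products on
the dual of `K ⧸ L`, there is a canonical involution commuting with `L` that inverts the eigenoperators.
-/

namespace Cfsg.Agent.BlkChar.OddCorr

open Module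
open scoped commutatorElement

variable {K : Type*} [Group K]
  {W : Type*} [AddCommGroup W] [Module ℂ W]

/-- The group of eigenoperators with characters trivial on `L`. -/
def eigUnits (φ : Representation ℂ K W) (L : Subgroup K) : Subgroup (W →ₗ[ℂ] W)ˣ where
  carrier := {u | ∃ a ∈ dual L, IsEigen φ a (u : W →ₗ[ℂ] W)}
  one_mem' := ⟨1, one_mem _, IsEigen.one⟩
  mul_mem' := fun {u v} ⟨a, ha, hu⟩ ⟨b, hb, hv⟩ => ⟨a * b, mul_mem ha hb, hu.mul hv⟩
  inv_mem' := fun {_} ⟨a, ha, hu⟩ => ⟨a⁻¹, inv_mem ha, hu.inv⟩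

/-- The character of an eigenoperator. -/
noncomputable def eigChar (φ : Representation ℂ K W) (L : Subgroup K) [Nontrivial W] :
    eigUnits φ L →* (K →* ℂˣ) where
  toFun u := u.2.choose
  map_one' := IsEigen.unique (u := 1) (1 : eigUnits φ L).2.choose_spec.2 IsEigen.one
  map_mul' u v := IsEigen.unique (u := (↑(u * v) : (W →ₗ[ℂ] W)ˣ)) (u * v).2.choose_spec.2
    (u.2.choose_spec.2.mul v.2.choose_spec.2)

theorem eigChar_spec (φ : Representation ℂ K W) (L : Subgroup K) [Nontrivial W] (u : eigUnits φ L) :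
    eigChar φ L u ∈ dual L ∧ IsEigen φ (eigChar φ L u) ((u : (W →ₗ[ℂ] W)ˣ) : W →ₗ[ℂ] W) :=
  u.2.choose_spec

theorem eigChar_eq (φ : Representation ℂ K W) (L : Subgroup K) [Nontrivial W] (u : eigUnits φ L)
    {a : K →* ℂˣ} (h : IsEigen φ a ((u : (W →ₗ[ℂ] W)ˣ) : W →ₗ[ℂ] W)) : eigChar φ L u = a :=
  IsEigen.unique (eigChar_spec φ L u).2 h

variable [Fintype K] [FiniteDimensional ℂ W]

/-- The algebra automorphism attached to an automorphism of `K` fixing the character. -/
noncomputable abbrev alpha (φ : Representation ℂ K W) [φ.IsIrreducible] (τ : K ≃* K) :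
    (W →ₗ[ℂ] W) →ₗ[ℂ] (W →ₗ[ℂ] W) :=
  phi φ (φ.comp τ.toMonoidHom)

section Alpha

variable {φ : Representation ℂ K W} [φ.IsIrreducible] {τ : K ≃* K}
  (hτ : ∀ x, φ.character (τ x) = φ.character x)

include hτ

theorem alpha_rep (x : K) : alpha φ τ (φ x) = φ (τ x) :=
  phi_rep (φ := φ) (ρ := φ.comp τ.toMonoidHom) (m := 1) (fun k => by rw [one_mul]; exact hτ k) x

theorem alpha_one : alpha φ τ 1 = 1 :=
  phi_one (φ := φ) (ρ := φ.comp τ.toMonoidHom) (m := 1) (fun k => by rw [one_mul]; exact hτ k)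

theorem alpha_mul (A B : W →ₗ[ℂ] W) : alpha φ τ (A * B) = alpha φ τ A * alpha φ τ B :=
  phi_mul (φ := φ) (ρ := φ.comp τ.toMonoidHom) (m := 1) (fun k => by rw [one_mul]; exact hτ k) A B

omit hτ in
theorem symm_char (hτ : ∀ x, φ.character (τ x) = φ.character x) (x : K) :
    φ.character (τ.symm x) = φ.character x := by
  conv_rhs => rw [← τ.apply_symm_apply x, hτ]

theorem alpha_symm_alpha (A : W →ₗ[ℂ] W) : alpha φ τ.symm (alpha φ τ A) = A := by
  refine LinearMap.congr_fun (f := (alpha φ τ.symm).comp (alpha φ τ)) (g := LinearMap.id)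
    (ext_rep φ fun k => ?_) A
  rw [LinearMap.comp_apply, alpha_rep hτ, alpha_rep (symm_char hτ), τ.symm_apply_apply]
  rfl

theorem alpha_alpha_symm (A : W →ₗ[ℂ] W) : alpha φ τ (alpha φ τ.symm A) = A := by
  refine LinearMap.congr_fun (f := (alpha φ τ).comp (alpha φ τ.symm)) (g := LinearMap.id)
    (ext_rep φ fun k => ?_) A
  rw [LinearMap.comp_apply, alpha_rep (symm_char hτ), alpha_rep hτ, τ.apply_symm_apply]
  rfl

theorem IsEigen.alpha {a : K →* ℂˣ} {A : W →ₗ[ℂ] W} (hA : IsEigen φ a A) :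
    IsEigen φ (a.comp τ.symm.toMonoidHom) (OddCorr.alpha φ τ A) := fun k => by
  have h := congrArg (OddCorr.alpha φ τ) (hA (τ.symm k))
  rw [alpha_mul hτ, map_smul, alpha_mul hτ, alpha_rep hτ, τ.apply_symm_apply] at h
  exact h

/-- The automorphism as a multiplicative equivalence. -/
noncomputable def alphaEquiv : (W →ₗ[ℂ] W) ≃* (W →ₗ[ℂ] W) where
  toFun := OddCorr.alpha φ τ
  invFun := OddCorr.alpha φ τ.symm
  left_inv := alpha_symm_alpha hτ
  right_inv := alpha_alpha_symm hτ
  map_mul' := alpha_mul hτ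

omit hτ in
theorem symm_mem {L : Subgroup K} (hL : ∀ l ∈ L, τ l ∈ L) {l : K} (hl : l ∈ L) :
    τ.symm l ∈ L := by
  obtain ⟨⟨y, hy⟩, hy'⟩ := Finite.surjective_of_injective
    (f := fun z : L => (⟨τ z, hL z z.2⟩ : L))
    (fun a b h => Subtype.ext (τ.injective (congrArg Subtype.val h))) ⟨l, hl⟩
  rw [← show τ y = l from congrArg Subtype.val hy', τ.symm_apply_apply]
  exact hy

end Alpha

/-- The normalised eigenoperators. -/
noncomputable def normUnits (φ : Representation ℂ K W) (L : Subgroup K) [Nontrivial W] {n j : ℕ}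
    (hn : n = 2 * j + 1) (hc : KerCentral (eigChar φ L))
    (hlam : ∀ a : K →* ℂˣ, a ^ n = 1) : Subgroup (eigUnits φ L) where
  carrier := {u | u ^ n = 1}
  one_mem' := one_pow n
  mul_mem' := fun {x y} (hx : x ^ n = 1) (hy : y ^ n = 1) => by
    show (x * y) ^ n = 1
    have h1 : ⁅y, x⁆ ^ n = 1 := by rw [← comm_pow_left hc, hy, commutatorElement_one_left]
    have h2 : n.choose 2 = n * j := by
      rw [Nat.choose_two_right, hn, show 2 * j + 1 - 1 = 2 * j by omega,
        show (2 * j + 1) * (2 * j) = ((2 * j + 1) * j) * 2 by ring, Nat.mul_div_cancel _ two_pos]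
    rw [mul_pow_eq hc, hx, hy, h2, pow_mul, h1, one_pow, one_mul, one_mul]
  inv_mem' := fun {x} (hx : x ^ n = 1) => by
    show x⁻¹ ^ n = 1
    rw [inv_pow, hx, inv_one]

/-- The canonical involution. -/
theorem exists_invol {Y : Type*} [AddCommGroup Y] [Module ℂ Y] [FiniteDimensional ℂ Y]
    (φ : Representation ℂ K W) [φ.IsIrreducible] (L : Subgroup K) [L.Normal] [Fintype L]
    (hab : ∀ a b : K, ⁅a, b⁆ ∈ L) (θ : Representation ℂ L Y) [θ.IsIrreducible] (e : ℂ)
    (hres : ∀ l : L, φ.character l = e * θ.character l) (hodd : Odd (Nat.card K))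
    {ι : Type*} [Fintype ι] (σ : ι → K ≃* K) (hcop : (Fintype.card ι).Coprime (Nat.card K))
    (hσL : ∀ s, ∀ l ∈ L, σ s l ∈ L) (hσφ : ∀ s x, φ.character (σ s x) = φ.character x)
    (hnorm : ∀ a ∈ dual L, ∀ x, ∏ s, (a : K →* ℂˣ) ((σ s).symm x) = 1) :
    ∃ u : W →ₗ[ℂ] W, u * u = 1 ∧ (∀ l ∈ L, Commute u (φ l)) ∧
      (∀ k, ∃ a : L → ℂ, u * φ k * u * φ k = ∑ l : L, a l • φ l) ∧
      ∀ τ : K ≃* K, (∀ x, φ.character (τ x) = φ.character x) → (∀ l ∈ L, τ l ∈ L) →
        (∀ s x, τ (σ s x) = σ s (τ x)) → alpha φ τ u = u := by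
  classical
  haveI := nontrivial_of_irreducible φ
  obtain ⟨j, hj⟩ := hodd
  set n := Nat.card K with hn_def
  set m := j + 1 with hm_def
  have hm : 2 * m = n + 1 := by omega
  set q₀ := eigChar φ L with hq₀
  have hc₀ : KerCentral q₀ := by
    intro z hz w
    obtain ⟨c, hcz⟩ := IsEigen.scalar (hz ▸ (eigChar_spec φ L z).2)
    refine Subtype.ext (Units.ext ?_)
    show ((z : (W →ₗ[ℂ] W)ˣ) : W →ₗ[ℂ] W) * _ = _ * ((z : (W →ₗ[ℂ] W)ˣ) : W →ₗ[ℂ] W)
    rw [hcz, smul_mul_assoc, mul_smul_comm, one_mul, mul_one]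
  let Nn := normUnits φ L hj hc₀ pow_card_eq_one_hom
  let q : Nn →* (K →* ℂˣ) := q₀.comp Nn.subtype
  let v : Nn → (W →ₗ[ℂ] W) := fun x => (((x : eigUnits φ L) : (W →ₗ[ℂ] W)ˣ) : W →ₗ[ℂ] W)
  have hv_mul : ∀ x y, v (x * y) = v x * v y := fun x y => rfl
  have hv_inj : Function.Injective v := fun x y h => Subtype.ext (Subtype.ext (Units.ext h))
  have hv_eig : ∀ x, IsEigen φ (q x) (v x) := fun x => (eigChar_spec φ L _).2
  have hq_dual : ∀ x, q x ∈ dual L := fun x => (eigChar_spec φ L _).1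
  have hc : KerCentral q := fun z hz w => Subtype.ext (hc₀ _ hz _).eq
  have hn : ∀ x : Nn, x ^ n = 1 := fun x => Subtype.ext x.2
  -- every eigenoperator is a multiple of a normalised one
  have hreach : ∀ a ∈ dual L, ∀ A, IsEigen φ a A → ∃ x : Nn, ∃ c : ℂ, A = c • v x := by
    intro a ha A hA
    by_cases h0 : A = 0
    · exact ⟨1, 0, by rw [h0, zero_smul]⟩
    obtain ⟨u, hu⟩ := hA.isUnit h0
    obtain ⟨c, hcA⟩ := IsEigen.scalar ((pow_card_eq_one_hom a) ▸ hA.pow n)
    have hc0 : c ≠ 0 := by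
      intro h
      rw [h, zero_smul, ← hu, ← Units.val_pow_eq_pow_val] at hcA
      exact (u ^ n).ne_zero hcA
    obtain ⟨z, hz⟩ := IsAlgClosed.exists_pow_nat_eq c (show 0 < n from Nat.card_pos)
    have hz0 : z ≠ 0 := fun h => hc0 (by rw [← hz, h, zero_pow Nat.card_pos.ne'])
    have hpow : (z⁻¹ • A) ^ n = 1 := by
      rw [smul_pow, hcA, ← hz, smul_smul, inv_pow, inv_mul_cancel₀ (pow_ne_zero _ hz0), one_smul]
    obtain ⟨u', hu'⟩ : IsUnit (z⁻¹ • A) :=
      (hA.smul z⁻¹).isUnit (smul_ne_zero (inv_ne_zero hz0) h0)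
    refine ⟨⟨⟨u', a, ha, hu' ▸ hA.smul z⁻¹⟩, ?_⟩, z, ?_⟩
    · refine Subtype.ext (Units.ext ?_)
      show ((u' ^ n : (W →ₗ[ℂ] W)ˣ) : W →ₗ[ℂ] W) = 1
      rw [Units.val_pow_eq_pow_val, hu', hpow]
    · show A = z • (u' : W →ₗ[ℂ] W)
      rw [hu', smul_smul, mul_inv_cancel₀ hz0, one_smul]
  have hall : ∀ Z, (∀ x, Commute Z (v x)) → ∀ B, (∀ l ∈ L, Commute B (φ l)) → Commute Z B := by
    intro Z hZ B hB
    refine commute_of_commute_eigen hab (fun a ha A hA => ?_) hB
    obtain ⟨x, c, rfl⟩ := hreach a ha A hA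
    exact (hZ x).smul_right c
  -- automorphisms act on the normalised eigenoperators
  have hact : ∀ τ : K ≃* K, (∀ x, φ.character (τ x) = φ.character x) → (∀ l ∈ L, τ l ∈ L) →
      ∃ h : Nn ≃* Nn, (∀ x, v (h x) = alpha φ τ (v x)) ∧
        ∀ x, q (h x) = (q x).comp τ.symm.toMonoidHom := by
    intro τ hτ hτL
    have hτ' := symm_char hτ
    have key : ∀ τ : K ≃* K, (∀ x, φ.character (τ x) = φ.character x) → (∀ l ∈ L, τ l ∈ L) →
        ∀ x : Nn, ∃ y : Nn, v y = alpha φ τ (v x) := by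
      intro τ hτ hτL x
      have hd : (q x).comp τ.symm.toMonoidHom ∈ dual L := fun l hl => hq_dual x _ (symm_mem hτL hl)
      let u : (W →ₗ[ℂ] W)ˣ :=
        Units.map (alphaEquiv hτ).toMonoidHom ((x : eigUnits φ L) : (W →ₗ[ℂ] W)ˣ)
      refine ⟨⟨⟨u, _, hd, (hv_eig x).alpha hτ⟩, ?_⟩, rfl⟩
      refine Subtype.ext ?_
      show u ^ n = 1
      rw [← map_pow, show ((x : eigUnits φ L) : (W →ₗ[ℂ] W)ˣ) ^ n = 1 from
        congrArg (fun z : Nn => ((z : eigUnits φ L) : (W →ₗ[ℂ] W)ˣ)) (hn x), map_one]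
    choose f hf using key τ hτ hτL
    choose g hg using key τ.symm hτ' (fun l hl => symm_mem hτL hl)
    refine ⟨{ toFun := f, invFun := g,
              left_inv := fun x => hv_inj (by rw [hg, hf, alpha_symm_alpha hτ]),
              right_inv := fun x => hv_inj (by rw [hf, hg, alpha_alpha_symm hτ]),
              map_mul' := fun x y => hv_inj (by
                rw [hf, hv_mul, hv_mul, hf, hf, alpha_mul hτ]) }, hf, fun x => ?_⟩
    refine eigChar_eq φ L _ ?_
    show IsEigen φ _ (v (f x))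
    rw [hf]
    exact (hv_eig x).alpha hτ
  choose act hactv hactq using fun s => hact (σ s) (hσφ s) (hσL s)
  have hfix : ∀ s z, q z = 1 → act s z = z := by
    intro s z hz
    obtain ⟨c, hcz⟩ := IsEigen.scalar (hz ▸ hv_eig z)
    exact hv_inj (by rw [hactv, hcz, map_smul, alpha_one (hσφ s)])
  have hprod : ∀ x, ∏ s, q (act s x) = 1 := fun x => MonoidHom.ext fun k => by
    rw [MonoidHom.finsetProd_apply, MonoidHom.one_apply]
    simp only [hactq, MonoidHom.comp_apply]
    exact hnorm _ (hq_dual x) k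
  obtain ⟨P, hPq, hPc, hPm, hPh⟩ := exists_lift hc hm hn act hcop hfix hprod
  haveI := Fintype.ofFinite q.range
  choose r hr using fun g : q.range => g.2
  let p : q.range → Nn := fun g => P (r g)
  have hpq : ∀ g, q (p g) = g := fun g => (hPq _).trans (hr g)
  have hp_of : ∀ x g, q x = g.1 → P x = p g := fun x g h => hPc _ _ (h.trans (hr g).symm)
  have hpm : ∀ g g', p g * p g' = p (g * g') * ⁅p g, p g'⁆ ^ m := by
    intro g g'
    rw [show ⁅p g, p g'⁆ = ⁅r g, r g'⁆ from comm_congr hc (hPq _) (hPq _), hPm,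
      hp_of (r g * r g') (g * g') (by rw [map_mul, hr, hr]; rfl)]
  have hp1 : p 1 = 1 := by
    have h := hpm 1 1
    rw [mul_one, commutatorElement_self, one_pow, mul_one] at h
    exact mul_eq_left.mp h
  let kap : Nn → ℂ := fun z => LinearMap.trace ℂ W (v z) / finrank ℂ W
  have hkap : ∀ z, q z = 1 → v z = kap z • 1 := by
    intro z hz
    obtain ⟨c, hcz⟩ := IsEigen.scalar (hz ▸ hv_eig z)
    show v z = (LinearMap.trace ℂ W (v z) / finrank ℂ W) • 1
    rw [hcz, map_smul, LinearMap.trace_one, smul_eq_mul,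
      mul_div_cancel_right₀ _ (finrank_ne φ)]
  have hscal : ∀ a b : ℂ, a • (1 : W →ₗ[ℂ] W) = b • 1 → a = b := fun a b h =>
    smul_left_injective ℂ (one_ne_zero (α := W →ₗ[ℂ] W)) h
  have hkm : ∀ z z', q z = 1 → q z' = 1 → kap (z * z') = kap z * kap z' := fun z z' h h' =>
    hscal _ _ (by rw [← hkap _ (by rw [map_mul, h, h']; exact MonoidHom.ext fun k => one_mul _), hv_mul, hkap z h, hkap z' h',
      smul_mul_smul_comm, one_mul])
  have hk1 : kap 1 = 1 :=
    hscal _ _ (by rw [← hkap 1 (map_one q), one_smul]; rfl)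
  have hcq : ∀ x y, q (⁅x, y⁆ ^ m) = 1 := fun x y => by rw [map_pow, q_comm, one_pow]
  let c : q.range → q.range → ℂ := fun g g' => kap (⁅p g, p g'⁆ ^ m)
  have hvv : ∀ g g', v (p g) * v (p g') = c g g' • v (p (g * g')) := fun g g' => by
    rw [← hv_mul, hpm, hv_mul, hkap _ (hcq _ _), mul_smul_comm, mul_one]
  have hc_left : ∀ a b g, c (a * b) g = c a g * c b g := fun a b g => by
    show kap _ = kap _ * kap _
    rw [comm_congr hc (x' := p a * p b) (by rw [map_mul, hpq, hpq, hpq]; rfl) rfl, comm_mul_left hc,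
      (comm_mem hc _ _ _).mul_pow, hkm _ _ (hcq _ _) (hcq _ _)]
  have hc_right : ∀ a b g, c g (a * b) = c g a * c g b := fun a b g => by
    show kap _ = kap _ * kap _
    rw [comm_congr hc (y' := p a * p b) rfl (by rw [map_mul, hpq, hpq, hpq]; rfl), comm_mul_right hc,
      (comm_mem hc _ _ _).mul_pow, hkm _ _ (hcq _ _) (hcq _ _)]
  have hc_self : ∀ g, c g g = 1 := fun g => by
    show kap _ = 1
    rw [commutatorElement_self, one_pow, hk1]
  have hc_one : ∀ g, c g 1 = 1 := fun g => by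
    show kap _ = 1
    rw [hp1, commutatorElement_one_right, one_pow, hk1]
  have hc_one' : ∀ g, c 1 g = 1 := fun g => by
    show kap _ = 1
    rw [hp1, commutatorElement_one_left, one_pow, hk1]
  have hc_swap : ∀ a b, c a b * c b a = 1 := fun a b => by
    show kap _ * kap _ = 1
    rw [← hkm _ _ (hcq _ _) (hcq _ _), ← commutatorElement_inv (p a) (p b), inv_pow, mul_inv_cancel,
      hk1]
  have hc_inv : ∀ g, c g g⁻¹ = 1 := fun g => by
    have h := hc_right g g⁻¹ g
    rwa [mul_inv_cancel, hc_one, hc_self, one_mul, eq_comm] at h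
  set u₀ : W →ₗ[ℂ] W := ∑ g, v (p g) with hu₀
  have hu₀sq : u₀ * u₀ = (Fintype.card q.range : ℂ) • 1 := by
    have h1 : ∀ g, ∑ g', c g g' • v (p (g * g')) = ∑ t, c g t • v (p t) := fun g =>
      Fintype.sum_equiv (Equiv.mulLeft g) _ _ fun g' => by
        rw [Equiv.coe_mulLeft, hc_right, hc_self, one_mul]
    rw [hu₀, Finset.sum_mul]
    simp only [Finset.mul_sum, hvv]
    rw [Finset.sum_congr rfl fun g _ => h1 g, Finset.sum_comm]
    simp only [← Finset.sum_smul]
    rw [Finset.sum_eq_single 1]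
    · rw [Finset.sum_congr rfl fun g _ => hc_one g, Finset.sum_const, nsmul_eq_mul, mul_one, hp1,
        Finset.card_univ]
      rfl
    · intro t _ ht
      have hex : ∃ g, c g t ≠ 1 := by
        by_contra hall'
        push Not at hall'
        apply ht
        have hcomm : ∀ x : Nn, Commute (v (p t)) (v x) := by
          intro x
          have h2 : ⁅x, p t⁆ ^ m = 1 := by
            have h3 : ⁅x, p t⁆ = ⁅p ⟨q x, x, rfl⟩, p t⁆ := comm_congr hc (by rw [hpq]) rfl
            refine hv_inj ?_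
            rw [h3, hkap _ (hcq _ _)]
            show c ⟨q x, x, rfl⟩ t • (1 : W →ₗ[ℂ] W) = v 1
            rw [hall', one_smul]
            rfl
          have h4 : ⁅x, p t⁆ = 1 := by
            rw [← sq_comm hm hn ⁅x, p t⁆, h2, mul_one]
          have h5 := congrArg v (commutatorElement_eq_one_iff_mul_comm.mp h4)
          rw [hv_mul, hv_mul] at h5
          exact h5.symm
        obtain ⟨b, hb⟩ := scalar_of_center hres
          (fun l hl => (hv_eig (p t)).commute (hq_dual _) hl) (hall _ hcomm)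
        have h6 : q (p t) = 1 := by
          refine eigChar_eq φ L _ ?_
          show IsEigen φ 1 (v (p t))
          rw [hb]
          exact IsEigen.one.smul b
        exact Subtype.ext ((hpq t).symm.trans h6)
      obtain ⟨g₀, hg₀⟩ := hex
      have h7 : c g₀ t * ∑ g, c g t = ∑ g, c g t := by
        rw [Finset.mul_sum]
        exact Fintype.sum_equiv (Equiv.mulLeft g₀) _ _ fun g => by rw [Equiv.coe_mulLeft, hc_left]
      have h8 : ∑ g, c g t = 0 := by
        by_contra h0
        exact hg₀ ((mul_eq_right₀ h0).mp h7)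
      rw [h8, zero_smul]
    · exact fun h => absurd (Finset.mem_univ _) h
  obtain ⟨sq, hsq⟩ := IsAlgClosed.exists_pow_nat_eq (Fintype.card q.range : ℂ) two_pos
  have hsq0 : sq ≠ 0 := fun h => by
    rw [h, zero_pow two_ne_zero] at hsq
    exact Fintype.card_ne_zero (α := q.range) (by exact_mod_cast hsq.symm)
  refine ⟨sq⁻¹ • u₀, ?_, ?_, ?_, ?_⟩
  · rw [smul_mul_smul_comm, hu₀sq, smul_smul, ← hsq, pow_two]
    field_simp
    exact one_smul _ _
  · intro l hl
    exact (Commute.sum_left _ _ _ fun g _ => (hv_eig _).commute (hq_dual _) hl).smul_left _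
  · intro k
    have hflip : ∀ g, u₀ * v (p g) = v (p g⁻¹) * u₀ := by
      intro g
      rw [hu₀, Finset.sum_mul, Finset.mul_sum]
      simp only [hvv]
      refine Fintype.sum_equiv (Equiv.mulRight (g * g)) _ _ fun a => ?_
      rw [Equiv.coe_mulRight]
      congr 1
      · have e1 : c g⁻¹ (g * g) = 1 := by
          have h := hc_swap g⁻¹ g
          rw [show c g g⁻¹ = 1 from hc_inv g, mul_one] at h
          rw [hc_right, h, one_mul]
        rw [hc_right, e1, mul_one]
        have h1 := hc_left g⁻¹ g a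
        rw [inv_mul_cancel, hc_one'] at h1
        have h2 := hc_swap a g
        calc c a g = c a g * (c g⁻¹ a * c g a) := by rw [← h1, mul_one]
          _ = c g⁻¹ a * (c a g * c g a) := by ring
          _ = c g⁻¹ a := by rw [h2, mul_one]
      · congr 2
        rw [mul_comm g⁻¹, mul_assoc, mul_assoc, mul_inv_cancel, mul_one]
    have hu2 : ∀ g, (sq⁻¹ • u₀) * v (p g) = v (p g⁻¹) * (sq⁻¹ • u₀) := fun g => by
      rw [smul_mul_assoc, mul_smul_comm, hflip]
    generalize sq⁻¹ • u₀ = u at hu2 ⊢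
    refine eq_sum_of_commute hres (hall _ fun x => ?_)
    have hx : ∃ a : ℂ, v x = a • v (p ⟨q x, x, rfl⟩) := by
      have hz : q ((p ⟨q x, x, rfl⟩)⁻¹ * x) = 1 := by rw [map_mul, map_inv, hpq, inv_mul_cancel]
      have h := hv_mul (p ⟨q x, x, rfl⟩) ((p ⟨q x, x, rfl⟩)⁻¹ * x)
      rw [mul_inv_cancel_left, hkap _ hz, mul_smul_comm, mul_one] at h
      exact ⟨_, h⟩
    obtain ⟨a, ha⟩ := hx
    rw [ha]
    refine Commute.smul_right ?_ _
    set g : q.range := ⟨q x, x, rfl⟩
    have e1 := hv_eig (p g) k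
    have e2 := hv_eig (p g⁻¹) k
    rw [hpq] at e1 e2
    show u * φ k * u * φ k * v (p g) = v (p g) * (u * φ k * u * φ k)
    calc u * φ k * u * φ k * v (p g) = u * φ k * u * (φ k * v (p g)) := by simp only [mul_assoc]
      _ = (g.1 k : ℂ) • (u * φ k * (u * v (p g)) * φ k) := by
          rw [e1, mul_smul_comm]; simp only [mul_assoc]
      _ = (g.1 k : ℂ) • (u * (φ k * v (p g⁻¹)) * u * φ k) := by
          rw [hu2]; simp only [mul_assoc]
      _ = (g.1 k : ℂ) • ((g⁻¹).1 k : ℂ) • ((u * v (p g⁻¹)) * φ k * u * φ k) := by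
          rw [e2, mul_smul_comm, smul_mul_assoc, smul_mul_assoc]; simp only [mul_assoc]
      _ = _ := by
          rw [hu2, inv_inv, smul_smul, ← Units.val_mul]
          simp only [InvMemClass.coe_inv, MonoidHom.inv_apply, mul_inv_cancel, Units.val_one,
            one_smul, mul_assoc]
  · intro τ hτ hτL hτσ
    obtain ⟨h, hhv, hhq⟩ := hact τ hτ hτL
    have hcomm : ∀ s x, h (act s x) = act s (h x) := by
      intro s x
      refine hv_inj ?_
      rw [hhv, hactv, hactv, hhv]
      refine LinearMap.congr_fun (f := (alpha φ τ).comp (alpha φ (σ s)))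
        (g := (alpha φ (σ s)).comp (alpha φ τ)) (ext_rep φ fun k => ?_) _
      rw [LinearMap.comp_apply, LinearMap.comp_apply, alpha_rep (hσφ s), alpha_rep hτ, alpha_rep hτ,
        alpha_rep (hσφ s), hτσ]
    let f : q.range → q.range := fun g => ⟨q (h (r g)), h (r g), rfl⟩
    have hf : Function.Bijective f := by
      refine Finite.injective_iff_bijective.mp fun a b hab' => ?_
      have h1 : q (h (r a)) = q (h (r b)) := congrArg Subtype.val hab'
      rw [hhq, hhq, hr, hr] at h1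
      refine Subtype.ext (MonoidHom.ext fun k => ?_)
      simpa using congrArg (fun F : K →* ℂˣ => F (τ k)) h1
    rw [map_smul, hu₀, map_sum]
    congr 1
    refine Fintype.sum_equiv (Equiv.ofBijective f hf) _ _ fun g => ?_
    show alpha φ τ (v (p g)) = v (p (f g))
    rw [← hhv, hPh h hcomm, hp_of _ (f g) rfl]

end Cfsg.Agent.BlkChar.OddCorr
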