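import Cfsg.Agent.BlkChar.OddCorr.Reduction

/-!
# The odd multiplicity correspondence for an abelian section
-/

namespace Cfsg.Agent.BlkChar.OddCorr

open scoped commutatorElement
open CharDeep.Ext (conjFn inertia)

variable {G A : Type*} [Group G] [Fintype G] [Group A] [Fintype A]

/-- The correspondence for a section with trivial orbit products. -/
theorem section_corr (D : Section G A) (hE : OrbitTriv D.act D.K D.L) [Fintype D.H] :
    (∀ χ : Cfsg.IrrCharacter G, D.InvG χ → ∃ ψ : Cfsg.IrrCharacter D.H,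
      D.InvH ψ ∧ OddMult (fun h : D.H => (χ : G → ℂ) h) ψ ∧
        ∀ ψ' : Cfsg.IrrCharacter D.H, D.InvH ψ' → OddMult (fun h : D.H => (χ : G → ℂ) h) ψ' →
          ψ' = ψ) ∧
    (∀ χ χ' : Cfsg.IrrCharacter G, D.InvG χ → D.InvG χ' → ∀ ψ : Cfsg.IrrCharacter D.H, D.InvH ψ →
      OddMult (fun h : D.H => (χ : G → ℂ) h) ψ → OddMult (fun h : D.H => (χ' : G → ℂ) h) ψ →
        χ = χ') ∧
    (∀ ψ : Cfsg.IrrCharacter D.H, D.InvH ψ →
      ∃ χ : Cfsg.IrrCharacter G, D.InvG χ ∧ OddMult (fun h : D.H => (χ : G → ℂ) h) ψ) := by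
  classical
  haveI := D.nL
  haveI := D.hsol
  letI := Fintype.ofFinite D.L
  set LH := D.L.subgroupOf D.H with hLH
  haveI : LH.Normal := Subgroup.normal_subgroupOf
  letI := Fintype.ofFinite LH
  let eLH : LH ≃* D.L := Subgroup.subgroupOfEquivOfLe D.le_H
  -- invariant constituents
  have hbelowH : ∀ ψ : Cfsg.IrrCharacter D.H, D.InvH ψ → ∃ θ : Cfsg.IrrCharacter D.L,
      (∀ a, ∀ l : D.L, (θ : D.L → ℂ) ⟨D.act a l, D.hL a l l.2⟩ = (θ : D.L → ℂ) l) ∧
      Cfsg.classInner (fun l : D.L => (ψ : D.H → ℂ) (Subgroup.inclusion D.le_H l)) θ ≠ 0 := by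
    intro ψ hψ
    obtain ⟨θ, hθ, hθA⟩ := exists_inv_below
      (CharCore.restrictAut D.act D.H (fun a x hx => D.hH_mem a x hx)) LH
      (fun a x hx => D.hL a _ hx) inferInstance
      (D.hcop.coprime_dvd_right (Subgroup.card_subgroup_dvd_card D.H)) ψ.2 hψ
    refine ⟨irrComp eLH.symm θ, fun a l => ?_, ?_⟩
    · obtain ⟨x, rfl⟩ := eLH.surjective l
      rw [irrComp_apply, irrComp_apply, eLH.symm_apply_apply, ← hθA a x]
      exact congrArg (θ : LH → ℂ) (Subtype.ext (Subtype.ext rfl))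
    · rw [← classInner_comp_equiv eLH (fun l : D.L => (ψ : D.H → ℂ) (Subgroup.inclusion D.le_H l))
        (irrComp eLH.symm θ : D.L → ℂ)]
      simp only [irrComp_apply, MulEquiv.symm_apply_apply]
      exact hθ
  refine ⟨fun χ hχ => ?_, fun χ χ' hχ hχ' ψ hψ ho ho' => ?_, fun ψ hψ => ?_⟩
  · obtain ⟨θ, hθ, hθA⟩ := exists_inv_below D.act D.L D.hL D.hsol D.hcop χ.2 hχ
    obtain ⟨ψ, hψA, hψo, huniq⟩ := (over_case D hE θ hθA).1 χ hχ hθ
    refine ⟨ψ, hψA, hψo, fun ψ' hψ'A hψ'o => huniq ψ' ?_ hψ'o⟩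
    obtain ⟨θ', hθ'A, hθ'⟩ := hbelowH ψ' hψ'A
    obtain ⟨m, hm, hmo⟩ := hψ'o
    have hθ'χ : Cfsg.classInner (fun l : D.L => (χ : G → ℂ) l) θ' ≠ 0 :=
      CharCore.classInner_comp_ne_zero D.H.subtype (Subgroup.inclusion D.le_H)
        (CharCore.irr_isCharacter χ) ψ' θ' (by
          show Cfsg.classInner (fun h : D.H => (χ : G → ℂ) h) ψ' ≠ 0
          rw [hm]; exact Nat.cast_ne_zero.mpr hmo.pos.ne') hθ'
    obtain ⟨g, hg⟩ := CharDeep.Ext.exists_conjFn_eq D.L θ.2 θ'.2 χ.2 hθ hθ'χ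
    obtain ⟨k, hk, c, hc, rfl⟩ := D.hgen g
    have hT : D.L ≤ inertia D.L (θ : D.L → ℂ) :=
      CharDeep.Ext.le_inertia D.L (CharCore.irr_isClassFunction θ)
    have hkT : k ∈ inertia D.L (θ : D.L → ℂ) := by
      refine D.mem_of_displacement _ hT hk fun a => ?_
      have e1 : conjFn D.L (θ : D.L → ℂ) (D.act a (k * c)) = θ' := by
        funext n
        have hm' : D.act a⁻¹ (n : G) ∈ D.L := D.hL a⁻¹ n n.2
        have hback : D.act a (D.act a⁻¹ (n : G)) = n := by
          rw [← MulAut.mul_apply, ← map_mul, mul_inv_cancel, map_one, MulAut.one_apply]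
        have h1 := congrFun hg ⟨_, hm'⟩
        rw [← hθ'A a ⟨_, hm'⟩] at h1
        rw [show (θ' : D.L → ℂ) n = (θ' : D.L → ℂ) ⟨D.act a (D.act a⁻¹ (n : G)), D.hL a _ hm'⟩ from
          congrArg _ (Subtype.ext hback.symm), ← h1]
        refine Eq.trans ?_ (hθA a _)
        refine congrArg (θ : D.L → ℂ) (Subtype.ext ?_)
        show D.act a (k * c) * n * (D.act a (k * c))⁻¹ =
          D.act a (k * c * D.act a⁻¹ n * (k * c)⁻¹)
        conv_rhs => rw [map_mul, map_mul, map_inv (D.act a), hback]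
      have e2 : conjFn D.L (θ : D.L → ℂ) (D.act a k * k⁻¹) = θ := by
        have h2 : D.act a k * k⁻¹ = D.act a (k * c) * (k * c)⁻¹ := by
          rw [map_mul, D.hC a c hc]; group
        rw [h2, ← CharDeep.Ext.conjFn_conjFn, e1, ← hg, CharDeep.Ext.conjFn_conjFn, mul_inv_cancel,
          CharDeep.Ext.conjFn_one]
      exact e2
    rw [← CharDeep.Ext.conjFn_conjFn, show conjFn D.L (θ : D.L → ℂ) k = θ from hkT] at hg
    intro h0
    apply hθ'
    rw [← hg]
    have hcH : c ∈ D.H := D.hH ▸ Subgroup.mem_sup_right hc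
    refine Eq.trans ?_ h0
    have e3 : (fun l : D.L => (ψ' : D.H → ℂ) (Subgroup.inclusion D.le_H l)) =
        fun l => (ψ' : D.H → ℂ) (Subgroup.inclusion D.le_H
          ((MulAut.conjNormal c : MulAut D.L) l)) := funext fun l => by
      rw [← CharCore.irr_isClassFunction ψ' (Subgroup.inclusion D.le_H l) ⟨c, hcH⟩]
      exact congrArg (ψ' : D.H → ℂ) (Subtype.ext rfl)
    conv_lhs => rw [e3]
    exact classInner_comp_equiv (MulAut.conjNormal c : MulAut D.L)
      (fun l : D.L => (ψ' : D.H → ℂ) (Subgroup.inclusion D.le_H l)) (θ : D.L → ℂ)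
  · obtain ⟨θ, hθA, hθ⟩ := hbelowH ψ hψ
    have hcomp : ∀ χ : Cfsg.IrrCharacter G, OddMult (fun h : D.H => (χ : G → ℂ) h) ψ →
        Cfsg.classInner (fun l : D.L => (χ : G → ℂ) l) θ ≠ 0 := by
      rintro χ ⟨m, hm, hmo⟩
      exact CharCore.classInner_comp_ne_zero D.H.subtype (Subgroup.inclusion D.le_H)
        (CharCore.irr_isCharacter χ) ψ θ (by
          show Cfsg.classInner (fun h : D.H => (χ : G → ℂ) h) ψ ≠ 0
          rw [hm]; exact Nat.cast_ne_zero.mpr hmo.pos.ne') hθ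
    exact (over_case D hE θ hθA).2.1 χ χ' hχ hχ' (hcomp χ ho) (hcomp χ' ho') ψ hθ ho ho'
  · obtain ⟨θ, hθA, hθ⟩ := hbelowH ψ hψ
    exact (over_case D hE θ hθA).2.2 ψ hθ

omit [Fintype G] in
/-- A coset of an invariant normal subgroup fixed by a coprime solvable-group action contains a
fixed point. -/
theorem exists_fixed_mem_coset [Finite G] (act : A →* MulAut G) (L : Subgroup G)
    (hL : ∀ a, ∀ x ∈ L, act a x ∈ L) (hsol : Group.IsSolvable L)
    (hcop : (Nat.card A).Coprime (Nat.card L)) (x : G) (hx : ∀ a, act a x * x⁻¹ ∈ L) :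
    ∃ l ∈ L, ∀ a, act a (l * x) = l * x := by
  let X := {y : G // y * x⁻¹ ∈ L}
  letI : MulAction L X :=
    { smul := fun l y => ⟨l * y.1, by rw [mul_assoc]; exact mul_mem l.2 y.2⟩
      one_smul := fun y => Subtype.ext (one_mul y.1)
      mul_smul := fun l l' y => Subtype.ext (mul_assoc (l : G) l' y.1) }
  letI : MulAction A X :=
    { smul := fun a y => ⟨act a y.1, by
        have h := mul_mem (hL a _ y.2) (hx a)
        rwa [map_mul, map_inv, mul_assoc, inv_mul_cancel_left] at h⟩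
      one_smul := fun y => Subtype.ext (by show act 1 y.1 = y.1; rw [map_one, MulAut.one_apply])
      mul_smul := fun a b y => Subtype.ext (by
        show act (a * b) y.1 = act a (act b y.1); rw [map_mul, MulAut.mul_apply]) }
  obtain ⟨y, hy⟩ := Coprime.exists_fixed_of_transitive (CharCore.restrictAut act L hL)
    (X := X) (fun a k z => Subtype.ext (map_mul (act a) (k : G) z.1))
    ⟨fun y z => ⟨⟨z.1 * y.1⁻¹, by simpa [mul_assoc] using mul_mem z.2 (inv_mem y.2)⟩,
      Subtype.ext (inv_mul_cancel_right _ _)⟩⟩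
    ⟨x, by rw [mul_inv_cancel]; exact one_mem L⟩ hcop (Or.inr hsol)
  exact ⟨y.1 * x⁻¹, y.2, fun a => by
    rw [inv_mul_cancel_right]; exact congrArg Subtype.val (hy a)⟩

/-- The section with the kernel of the orbit product in place of `K`. -/
theorem exists_section (act : A →* MulAut G) (K L C H : Subgroup G) [K.Normal] [L.Normal]
    (hLK : L ≤ K) (hC : ∀ a, ∀ c ∈ C, act a c = c) (hfix : ∀ g, (∀ a, act a g = g) → g ∈ C)
    (hH : H = L ⊔ C) (hKC : K ⊔ C = ⊤) (hK : ∀ a, ∀ x ∈ K, act a x ∈ K)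
    (hL : ∀ a, ∀ x ∈ L, act a x ∈ L) (hab : ∀ x ∈ K, ∀ y ∈ K, ⁅x, y⁆ ∈ L)
    (hcop : (Nat.card A).Coprime (Nat.card G)) (hodd : Odd (Nat.card G))
    (hsol : Group.IsSolvable G) :
    ∃ D : Section G A, D.act = act ∧ D.H = H ∧ OrbitTriv D.act D.K D.L := by
  classical
  haveI := hsol
  set P : G → G := fun x => ((Finset.univ : Finset A).toList.map fun a => act a x).prod with hP
  letI : CommGroup (K ⧸ L.subgroupOf K) :=
    { (inferInstance : Group (K ⧸ L.subgroupOf K)) with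
      mul_comm := fun x y => by
        obtain ⟨a, rfl⟩ := QuotientGroup.mk_surjective x
        obtain ⟨b, rfl⟩ := QuotientGroup.mk_surjective y
        rw [← QuotientGroup.mk_mul, ← QuotientGroup.mk_mul, QuotientGroup.eq]
        have h := hab ((b : G)⁻¹) (inv_mem b.2) ((a : G)⁻¹) (inv_mem a.2)
        rw [Subgroup.mem_subgroupOf]
        simpa [commutatorElement_def, mul_assoc] using h }
  let q := QuotientGroup.mk' (L.subgroupOf K)
  let actK := CharCore.restrictAut act K hK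
  let N : K →* K ⧸ L.subgroupOf K := ∏ a : A, q.comp (actK a).toMonoidHom
  have hN : ∀ x : K, N x = q ((Finset.univ : Finset A).toList.map fun a => actK a x).prod := by
    intro x
    show (∏ a : A, q.comp (actK a).toMonoidHom) x = _
    rw [MonoidHom.finsetProd_apply, map_list_prod, List.map_map, ← Finset.prod_map_toList]
    rfl
  have hNP : ∀ x : K, N x = 1 ↔ P x ∈ L := by
    intro x
    rw [hN, QuotientGroup.mk'_apply, QuotientGroup.eq_one_iff, Subgroup.mem_subgroupOf,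
      Subgroup.val_list_prod, List.map_map]
    rfl
  set K' : Subgroup G := N.ker.map K.subtype with hK'
  have hmem : ∀ x, x ∈ K' ↔ ∃ h : x ∈ K, N ⟨x, h⟩ = 1 := fun x => by
    rw [hK', Subgroup.mem_map]
    constructor
    · rintro ⟨y, hy, rfl⟩; exact ⟨y.2, MonoidHom.mem_ker.mp hy⟩
    · rintro ⟨h, hx⟩; exact ⟨⟨x, h⟩, MonoidHom.mem_ker.mpr hx, rfl⟩
  have hLK' : L ≤ K' := fun x hx => (hmem x).mpr ⟨hLK hx, (hNP _).mpr
    (list_prod_mem fun y hy => by
      obtain ⟨a, -, rfl⟩ := List.mem_map.mp hy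
      exact hL a x hx)⟩
  have hK'le : K' ≤ K := fun x hx => ((hmem x).mp hx).1
  have hK'A : ∀ a, ∀ x ∈ K', act a x ∈ K' := by
    intro b x hx
    obtain ⟨h, hx1⟩ := (hmem x).mp hx
    refine (hmem _).mpr ⟨hK b x h, ?_⟩
    rw [← hx1]
    show (∏ a : A, q.comp (actK a).toMonoidHom) _ = (∏ a : A, q.comp (actK a).toMonoidHom) _
    rw [MonoidHom.finsetProd_apply, MonoidHom.finsetProd_apply]
    refine Fintype.prod_equiv (Equiv.mulRight b) _ _ fun a => ?_
    refine congrArg q (Subtype.ext ?_)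
    show act a (act b x) = act (a * b) x
    rw [map_mul, MulAut.mul_apply]
  -- the complement
  have hfixK : ∀ x : K, ∃ c, c ∈ C ∧ c ∈ K ∧ ∃ h : c ∈ K, q ⟨c, h⟩ = N x := by
    intro x
    set y : K := ((Finset.univ : Finset A).toList.map fun a => actK a x).prod with hy
    have hy' : ∀ b, act b y * (y : G)⁻¹ ∈ L := by
      intro b
      have h1 : q (actK b y) = q y := by
        rw [← hN x, hy, map_list_prod (actK b), List.map_map, map_list_prod, List.map_map,
          Finset.prod_map_toList]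
        show _ = (∏ a : A, q.comp (actK a).toMonoidHom) x
        rw [MonoidHom.finsetProd_apply]
        refine Fintype.prod_equiv (Equiv.mulLeft b) _ _ fun a => ?_
        refine congrArg q (Subtype.ext ?_)
        show act b (act a x) = act (b * a) x
        rw [map_mul, MulAut.mul_apply]
      have h2 : q (actK b y * y⁻¹) = 1 := by rw [map_mul, map_inv, h1, mul_inv_cancel]
      exact Subgroup.mem_subgroupOf.mp ((QuotientGroup.eq_one_iff (actK b y * y⁻¹)).mp h2)
    obtain ⟨l, hl, hlfix⟩ := exists_fixed_mem_coset act L hL inferInstance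
      (hcop.coprime_dvd_right (Subgroup.card_subgroup_dvd_card L)) (y : G) hy'
    refine ⟨l * y, hfix _ hlfix, mul_mem (hLK hl) y.2, mul_mem (hLK hl) y.2, ?_⟩
    rw [show (⟨l * y, mul_mem (hLK hl) y.2⟩ : K) = ⟨l, hLK hl⟩ * y from rfl, map_mul,
      show q ⟨l, hLK hl⟩ = 1 from (QuotientGroup.eq_one_iff _).mpr hl, one_mul, hN]
  have hcopK : (Nat.card A).Coprime (Nat.card K) :=
    hcop.coprime_dvd_right (Subgroup.card_subgroup_dvd_card K)
  have hKC' : ∀ x ∈ K, x ∈ K' ⊔ C := by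
    intro x hx
    obtain ⟨c, hcC, -, hcK, hc⟩ := hfixK ⟨x, hx⟩
    have h1 : N (⟨x, hx⟩ ^ Nat.card A * ⟨c, hcK⟩⁻¹) = 1 := by
      have h2 : N ⟨c, hcK⟩ = q ⟨c, hcK⟩ ^ Nat.card A := by
        show (∏ a : A, q.comp (actK a).toMonoidHom) _ = _
        rw [MonoidHom.finsetProd_apply, Finset.prod_congr rfl fun a _ =>
          show q.comp (actK a).toMonoidHom ⟨c, hcK⟩ = q ⟨c, hcK⟩ from
            congrArg q (Subtype.ext (hC a c hcC)), Finset.prod_const, Finset.card_univ,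
          Nat.card_eq_fintype_card]
      rw [map_mul, map_inv, map_pow, h2, hc, mul_inv_cancel]
    have h3 : x ^ Nat.card A ∈ K' ⊔ C := by
      have h4 : x ^ Nat.card A * c⁻¹ ∈ K' :=
        (hmem _).mpr ⟨mul_mem (pow_mem hx _) (inv_mem hcK), h1⟩
      simpa using mul_mem (Subgroup.mem_sup_left h4) (Subgroup.mem_sup_right (S := K') hcC)
    rcases Nat.lt_or_ge (Nat.card K) 2 with hlt | hge
    · have : x = 1 := by
        haveI : Subsingleton K := (Nat.card_eq_one_iff_unique.mp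
          (by have := Nat.card_pos (α := K); omega)).1
        exact congrArg Subtype.val (Subsingleton.elim (⟨x, hx⟩ : K) 1)
      rw [this]; exact one_mem _
    obtain ⟨j, -, hj⟩ := Nat.exists_mul_mod_eq_one_of_coprime hcopK (by omega)
    have h5 : (x ^ Nat.card A) ^ j = x := by
      rw [← pow_mul, ← Nat.div_add_mod (Nat.card A * j) (Nat.card K), hj, pow_succ, pow_mul,
        show x ^ Nat.card K = 1 from congrArg Subtype.val (pow_card_eq_one' (x := (⟨x, hx⟩ : K))),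
        one_pow, one_mul]
    rw [← h5]
    exact pow_mem h3 j
  haveI hK'n : K'.Normal := by
    have htop : K ⊔ C ≤ Subgroup.normalizer (K' : Set G) := by
      refine sup_le (fun k hk => ?_) (fun c hc => ?_)
      · refine Coprime.le_normalizer_of_conj_mem (A := K) (fun k hk x hx => ?_) hk
        have h : k * x * k⁻¹ = ⁅k, x⁆ * x := by rw [commutatorElement_def]; group
        rw [h]
        exact mul_mem (hLK' (hab k hk x (hK'le hx))) hx
      · refine Coprime.le_normalizer_of_conj_mem (A := C) (fun c hc x hx => ?_) hc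
        obtain ⟨h, hx1⟩ := (hmem x).mp hx
        refine (hmem _).mpr ⟨Subgroup.Normal.conj_mem inferInstance x h c, ?_⟩
        rw [hNP]
        have e : P (c * x * c⁻¹) = c * P x * c⁻¹ := by
          show ((Finset.univ : Finset A).toList.map fun a => act a (c * x * c⁻¹)).prod =
            MulAut.conj c ((Finset.univ : Finset A).toList.map fun a => act a x).prod
          rw [map_list_prod, List.map_map]
          refine congrArg List.prod (List.map_congr_left fun a _ => ?_)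
          show act a (c * x * c⁻¹) = c * act a x * c⁻¹
          rw [map_mul, map_mul, map_inv, hC a c hc]
        show P (c * x * c⁻¹) ∈ L
        rw [e]
        exact Subgroup.Normal.conj_mem inferInstance _ ((hNP _).mp hx1) c
    rw [hKC] at htop
    exact Subgroup.normalizer_eq_top_iff.mp (top_le_iff.mp htop)
  have hgen : ∀ g : G, ∃ k ∈ K', ∃ c ∈ C, g = k * c := by
    intro g
    have h : g ∈ K' ⊔ C := by
      have : K ⊔ C ≤ K' ⊔ C := sup_le hKC' le_sup_right
      exact this (hKC ▸ Subgroup.mem_top g)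
    obtain ⟨k, hk, c, hc, he⟩ := Subgroup.mem_sup_of_normal_left.mp h
    exact ⟨k, hk, c, hc, he.symm⟩
  have hE : OrbitTriv act K' L := fun x hx => by
    obtain ⟨h, hx1⟩ := (hmem x).mp hx
    exact (hNP _).mp hx1
  have hnorm := hom_orbitTriv hE hK'A
  have hHK : ∀ x ∈ H, x ∈ K' → x ∈ L := by
    intro x hx hxK
    obtain ⟨l, hl, c, hc, rfl⟩ := Subgroup.mem_sup_of_normal_left.mp (hH ▸ hx : x ∈ L ⊔ C)
    have hcK : c ∈ K' := by simpa using mul_mem (inv_mem (hLK' hl)) hxK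
    refine mul_mem hl ?_
    obtain ⟨h, hc1⟩ := (hmem c).mp hcK
    have hq : q ⟨c, h⟩ ^ Fintype.card A = 1 := by
      rw [← hc1]
      show _ = (∏ a : A, q.comp (actK a).toMonoidHom) _
      rw [MonoidHom.finsetProd_apply, Finset.prod_congr rfl fun a _ =>
        show q.comp (actK a).toMonoidHom ⟨c, h⟩ = q ⟨c, h⟩ from
          congrArg q (Subtype.ext (hC a c hc)), Finset.prod_const, Finset.card_univ]
    have hq2 : q ⟨c, h⟩ ^ Nat.card K = 1 := by rw [← map_pow, pow_card_eq_one', map_one]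
    have h1 : q ⟨c, h⟩ = 1 := by
      rw [← pow_one (q _), ← hcopK.gcd_eq_one, Nat.card_eq_fintype_card (α := A)]
      exact pow_gcd_eq_one.mpr ⟨hq, hq2⟩
    exact Subgroup.mem_subgroupOf.mp ((QuotientGroup.eq_one_iff _).mp h1)
  exact ⟨⟨act, K', L, C, H, hK'n, inferInstance, hLK', hC, hH, hgen, hHK, hK'A, hL,
    fun x hx y hy => hab x (hK'le hx) y (hK'le hy), hnorm, hcop, hodd, hsol⟩, rfl, rfl, hE⟩

/-- The odd multiplicity correspondence. -/
theorem odd_corr (act : A →* MulAut G) (K L C H : Subgroup G) [K.Normal] [L.Normal] [Fintype H]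
    (hLK : L ≤ K) (hC : ∀ a, ∀ c ∈ C, act a c = c) (hfix : ∀ g, (∀ a, act a g = g) → g ∈ C)
    (hH : H = L ⊔ C) (hKC : K ⊔ C = ⊤) (hK : ∀ a, ∀ x ∈ K, act a x ∈ K)
    (hL : ∀ a, ∀ x ∈ L, act a x ∈ L) (hHA : ∀ a, ∀ x ∈ H, act a x ∈ H)
    (hab : ∀ x ∈ K, ∀ y ∈ K, ⁅x, y⁆ ∈ L) (hcop : (Nat.card A).Coprime (Nat.card G))
    (hodd : Odd (Nat.card G)) (hsol : Group.IsSolvable G) :
    (∀ χ : Cfsg.IrrCharacter G, (∀ a g, (χ : G → ℂ) (act a g) = (χ : G → ℂ) g) →
      ∃! ψ : Cfsg.IrrCharacter H,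
        (∀ a, ∀ h : H, (ψ : H → ℂ) ⟨act a h, hHA a h h.2⟩ = (ψ : H → ℂ) h) ∧
          OddMult (fun h : H => (χ : G → ℂ) h) ψ) ∧
    (∀ χ χ' : Cfsg.IrrCharacter G, (∀ a g, (χ : G → ℂ) (act a g) = (χ : G → ℂ) g) →
      (∀ a g, (χ' : G → ℂ) (act a g) = (χ' : G → ℂ) g) → ∀ ψ : Cfsg.IrrCharacter H,
      (∀ a, ∀ h : H, (ψ : H → ℂ) ⟨act a h, hHA a h h.2⟩ = (ψ : H → ℂ) h) →
      OddMult (fun h : H => (χ : G → ℂ) h) ψ → OddMult (fun h : H => (χ' : G → ℂ) h) ψ → χ = χ') ∧
    (∀ ψ : Cfsg.IrrCharacter H,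
      (∀ a, ∀ h : H, (ψ : H → ℂ) ⟨act a h, hHA a h h.2⟩ = (ψ : H → ℂ) h) →
      ∃ χ : Cfsg.IrrCharacter G, (∀ a g, (χ : G → ℂ) (act a g) = (χ : G → ℂ) g) ∧
        OddMult (fun h : H => (χ : G → ℂ) h) ψ) := by
  obtain ⟨D, hact, hDH, hE⟩ :=
    exists_section act K L C H hLK hC hfix hH hKC hK hL hab hcop hodd hsol
  subst hact hDH
  obtain ⟨h1, h2, h3⟩ := section_corr D hE
  refine ⟨fun χ hχ => ?_, h2, h3⟩
  obtain ⟨ψ, hψ, ho, hu⟩ := h1 χ hχ
  exact ⟨ψ, ⟨hψ, ho⟩, fun ψ' h => hu ψ' h.1 h.2⟩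

end Cfsg.Agent.BlkChar.OddCorr
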