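import Cfsg.Agent.BlkChar.OddCorr.Eigen
import Mathlib.LinearAlgebra.Matrix.ToLin

/-!
# Two-sided multiplication operators

Traces of the operators `A ↦ B * A * C`, and the idempotents cut out by the characters of an abelian
factor group acting by conjugation.
-/

namespace Cfsg.Agent.BlkChar.OddCorr

open Module
open scoped commutatorElement

variable {X : Type*} [AddCommGroup X] [Module ℂ X]

/-- The operator `A ↦ B * A * C`. -/
def sandwich (B C : X →ₗ[ℂ] X) : (X →ₗ[ℂ] X) →ₗ[ℂ] (X →ₗ[ℂ] X) :=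
  (LinearMap.mulLeft ℂ B).comp (LinearMap.mulRight ℂ C)

theorem sandwich_apply (B C A : X →ₗ[ℂ] X) : sandwich B C A = B * (A * C) := rfl

theorem sandwich_mul (B C B' C' : X →ₗ[ℂ] X) :
    sandwich B C * sandwich B' C' = sandwich (B * B') (C' * C) :=
  LinearMap.ext fun A => by simp [sandwich_apply, Module.End.mul_apply, mul_assoc]

/-- The trace of a two-sided multiplication. -/
theorem trace_sandwich [FiniteDimensional ℂ X] (B C : X →ₗ[ℂ] X) :
    LinearMap.trace ℂ (X →ₗ[ℂ] X) (sandwich B C) =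
      LinearMap.trace ℂ X B * LinearMap.trace ℂ X C := by
  classical
  let b := Module.finBasis ℂ X
  rw [LinearMap.trace_eq_matrix_trace ℂ b B, LinearMap.trace_eq_matrix_trace ℂ b C,
    LinearMap.trace_eq_matrix_trace ℂ b.end, Matrix.trace, Matrix.trace, Matrix.trace,
    Fintype.sum_prod_type, Finset.sum_mul_sum]
  refine Finset.sum_congr rfl fun i _ => Finset.sum_congr rfl fun j _ => ?_
  simp only [Matrix.diag_apply, LinearMap.toMatrix_apply]
  rw [show b.end.repr (sandwich B C (b.end (i, j))) (i, j) =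
      b.repr (sandwich B C (b.end (i, j)) (b j)) i by
    simp [Module.Basis.end, Matrix.stdBasis, LinearMap.toMatrix_apply],
    sandwich_apply, Module.End.mul_apply, Module.End.mul_apply]
  conv_lhs => rw [← b.sum_repr (C (b j))]
  simp only [map_sum, map_smul, Module.Basis.end_apply_apply, smul_ite, smul_zero,
    Finset.sum_ite_eq, Finset.mem_univ, if_true, Finsupp.smul_apply, smul_eq_mul]
  ring

variable {G : Type*} [Group G] (ρ : Representation ℂ G X) (K : Subgroup G)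

/-- Conjugation by `ρ g`. -/
def psi (g : G) : (X →ₗ[ℂ] X) →ₗ[ℂ] (X →ₗ[ℂ] X) := sandwich (ρ g) (ρ g⁻¹)

theorem psi_mul (g g' : G) : psi ρ g * psi ρ g' = psi ρ (g * g') := by
  rw [psi, psi, sandwich_mul, psi, map_mul, mul_inv_rev, map_mul]

variable [Fintype K]

/-- The isotypic projection for a linear character, unnormalised. -/
def proj (a : K →* ℂˣ) : (X →ₗ[ℂ] X) →ₗ[ℂ] (X →ₗ[ℂ] X) :=
  ∑ k : K, ((a k⁻¹ : ℂˣ) : ℂ) • psi ρ (k : G)

theorem proj_mul_psi (a : K →* ℂˣ) (k : K) :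
    proj ρ K a * psi ρ (k : G) = (a k : ℂ) • proj ρ K a := by
  rw [proj, Finset.sum_mul, Finset.smul_sum]
  refine Fintype.sum_equiv (Equiv.mulRight k) _ _ fun j => ?_
  simp only [Equiv.coe_mulRight, smul_mul_assoc, psi_mul, Subgroup.coe_mul, smul_smul, mul_inv_rev,
    map_mul, Units.val_mul]
  congr 1
  rw [map_inv a k, Units.val_inv_eq_inv_val, mul_inv_cancel_left₀ (Units.ne_zero _)]

theorem proj_mul_proj (a b : K →* ℂˣ) :
    proj ρ K a * proj ρ K b = (∑ k : K, ((a * b⁻¹) k : ℂ)) • proj ρ K a := by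
  rw [show proj ρ K b = ∑ k : K, ((b k⁻¹ : ℂˣ) : ℂ) • psi ρ (k : G) from rfl, Finset.mul_sum,
    Finset.sum_smul]
  refine Finset.sum_congr rfl fun k _ => ?_
  rw [mul_smul_comm, proj_mul_psi, smul_smul, MonoidHom.mul_apply, MonoidHom.inv_apply, map_inv b k,
    Units.val_mul, mul_comm]

theorem sum_hom_apply_eq_zero {a : K →* ℂˣ} (ha : a ≠ 1) : ∑ k : K, (a k : ℂ) = 0 := by
  obtain ⟨k₀, hk₀⟩ : ∃ k₀, a k₀ ≠ 1 := by
    by_contra h
    push Not at h
    exact ha (MonoidHom.ext h)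
  have h : (a k₀ : ℂ) * ∑ k : K, (a k : ℂ) = ∑ k : K, (a k : ℂ) := by
    rw [Finset.mul_sum]
    exact Fintype.sum_equiv (Equiv.mulLeft k₀) _ _ fun k => by simp
  by_contra h0
  exact hk₀ (Units.ext ((mul_eq_right₀ h0).mp h))

theorem proj_mul_of_ne {a b : K →* ℂˣ} (h : a ≠ b) : proj ρ K a * proj ρ K b = 0 := by
  rw [proj_mul_proj, sum_hom_apply_eq_zero, zero_smul]
  exact fun h' => h (MonoidHom.ext fun k => mul_inv_eq_one.mp (DFunLike.congr_fun h' k))

theorem proj_sq (a : K →* ℂˣ) :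
    proj ρ K a * proj ρ K a = (Fintype.card K : ℂ) • proj ρ K a := by
  rw [proj_mul_proj]
  congr 1
  rw [Finset.sum_congr rfl fun k _ => show (((a * a⁻¹) k : ℂˣ) : ℂ) = 1 by
    rw [MonoidHom.mul_apply, MonoidHom.inv_apply, mul_inv_cancel, Units.val_one], Finset.sum_const,
    Finset.card_univ, nsmul_eq_mul, mul_one]

theorem psi_mul_proj [hK : K.Normal] (g : G) (a : K →* ℂˣ) :
    psi ρ g * proj ρ K a =
      proj ρ K (a.comp (MulAut.conjNormal g⁻¹ : MulAut K).toMonoidHom) * psi ρ g := by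
  rw [proj, proj, Finset.mul_sum, Finset.sum_mul]
  refine Fintype.sum_equiv (MulAut.conjNormal g : MulAut K).toEquiv _ _ fun k => ?_
  rw [mul_smul_comm, smul_mul_assoc, psi_mul, psi_mul]
  congr 1
  · refine congrArg (fun z : K => ((a z : ℂˣ) : ℂ)) (Subtype.ext ?_)
    show ((k⁻¹ : K) : G) = g⁻¹ * ((g * (k : G) * g⁻¹)⁻¹) * g⁻¹⁻¹
    simp [mul_assoc]
  · congr 1
    show g * (k : G) = g * (k : G) * g⁻¹ * g
    rw [inv_mul_cancel_right]

end Cfsg.Agent.BlkChar.OddCorr
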