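import Cfsg.Agent.Lib.CharClifford.Central
import Mathlib.LinearAlgebra.Trace

/-!
# The algebra map attached to a multiple of an irreducible character

If the character of `ρ` is a multiple of that of the irreducible `φ`, then `φ k ↦ ρ k` extends to an
algebra map from all endomorphisms of the space of `φ`.
-/

namespace Cfsg.Agent.BlkChar.OddCorr

open Module

variable {K : Type*} [Group K] [Fintype K]
  {W : Type*} [AddCommGroup W] [Module ℂ W] [FiniteDimensional ℂ W]
  {X : Type*} [AddCommGroup X] [Module ℂ X] [FiniteDimensional ℂ X]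
  (φ : Representation ℂ K W) [φ.IsIrreducible] (ρ : Representation ℂ K X)

include φ in
omit [Fintype K] in
theorem finrank_ne : (finrank ℂ W : ℂ) ≠ 0 :=
  Nat.cast_ne_zero.mpr (CharClifford.finrank_pos_of_irreducible φ).ne'

theorem card_ne : (Fintype.card K : ℂ) ≠ 0 := Nat.cast_ne_zero.mpr Fintype.card_ne_zero

/-- Averaging over conjugation gives a scalar. -/
theorem sum_conj_eq (B : W →ₗ[ℂ] W) :
    ∑ k : K, φ k * B * φ k⁻¹ =
      ((Fintype.card K : ℂ) * LinearMap.trace ℂ W B / finrank ℂ W) • 1 := by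
  obtain ⟨c, hc⟩ := CharClifford.exists_scalar_of_commute φ (∑ k : K, φ k * B * φ k⁻¹) (fun g => by
    show _ * _ = _ * _
    rw [Finset.sum_mul, Finset.mul_sum]
    refine Fintype.sum_equiv (Equiv.mulLeft g⁻¹) _ _ fun k => ?_
    simp only [Equiv.coe_mulLeft, mul_inv_rev, inv_inv, ← mul_assoc, ← map_mul, mul_inv_cancel,
      one_mul]
    simp only [mul_assoc, ← map_mul])
  rw [hc]
  congr 1
  have h := congrArg (LinearMap.trace ℂ W) hc
  rw [map_sum, map_smul, LinearMap.trace_one, smul_eq_mul] at h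
  rw [eq_div_iff (finrank_ne φ), ← h]
  have : ∀ k : K, LinearMap.trace ℂ W (φ k * B * φ k⁻¹) = LinearMap.trace ℂ W B := fun k => by
    rw [LinearMap.trace_mul_cycle, ← map_mul, inv_mul_cancel, map_one, one_mul]
  rw [Finset.sum_congr rfl fun k _ => this k, Finset.sum_const, Finset.card_univ, nsmul_eq_mul]

omit [FiniteDimensional ℂ W] in
theorem trace_eq_sum_coord {ι : Type*} [Fintype ι] (b : Basis ι ℂ W) (f : W →ₗ[ℂ] W) :
    LinearMap.trace ℂ W f = ∑ i, b.coord i (f (b i)) := by
  classical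
  rw [LinearMap.trace_eq_matrix_trace ℂ b, Matrix.trace]
  exact Finset.sum_congr rfl fun i _ => by simp [LinearMap.toMatrix_apply]

/-- Every endomorphism is a combination of the images of `φ`. -/
theorem sum_trace_smul (A : W →ₗ[ℂ] W) :
    ∑ k : K, LinearMap.trace ℂ W (A * φ k⁻¹) • φ k =
      ((Fintype.card K : ℂ) / finrank ℂ W) • A := by
  refine LinearMap.ext fun x => ?_
  let b := Module.finBasis ℂ W
  have h : ∀ i, ∑ k : K, b.coord i (φ k⁻¹ (A (b i))) • φ k x =
      ((Fintype.card K : ℂ) / finrank ℂ W * b.coord i x) • A (b i) := by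
    intro i
    have h1 := congrArg (fun f : W →ₗ[ℂ] W => f (A (b i)))
      (sum_conj_eq φ ((b.coord i).smulRight x))
    simp only [LinearMap.sum_apply, Module.End.mul_apply, LinearMap.smulRight_apply, map_smul,
      LinearMap.trace_smulRight, LinearMap.smul_apply, Module.End.one_apply] at h1
    rw [h1, div_mul_eq_mul_div]
  rw [LinearMap.sum_apply, LinearMap.smul_apply]
  simp only [LinearMap.trace_mul_comm ℂ A, trace_eq_sum_coord b,
    Module.End.mul_apply, LinearMap.smul_apply, Finset.sum_smul, LinearMap.sum_apply]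
  rw [Finset.sum_comm, Finset.sum_congr rfl fun i _ => h i]
  conv_rhs => rw [← b.sum_repr x, map_sum, Finset.smul_sum]
  exact Finset.sum_congr rfl fun i _ => by rw [map_smul, smul_smul]; rfl

/-- Generalized orthogonality. -/
theorem sum_char_mul (x : K) :
    ∑ k : K, φ.character k⁻¹ * φ.character (x * k) =
      (Fintype.card K : ℂ) / finrank ℂ W * φ.character x := by
  have h := congrArg (fun f : W →ₗ[ℂ] W => LinearMap.trace ℂ W (φ x * f))
    (sum_trace_smul φ 1)
  simp only [one_mul, Finset.mul_sum, mul_smul_comm, map_sum, map_smul, smul_eq_mul, mul_one,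
    ← map_mul] at h
  exact h

/-- A linear map is determined by its values on the images of `φ`. -/
theorem ext_rep {E : Type*} [AddCommGroup E] [Module ℂ E] {f g : (W →ₗ[ℂ] W) →ₗ[ℂ] E}
    (h : ∀ k, f (φ k) = g (φ k)) : f = g := by
  refine LinearMap.ext fun A => ?_
  have hA : A = ((finrank ℂ W : ℂ) / Fintype.card K) •
      ∑ k : K, LinearMap.trace ℂ W (A * φ k⁻¹) • φ k := by
    rw [sum_trace_smul, smul_smul, div_mul_div_cancel₀ (card_ne), div_self (finrank_ne φ), one_smul]
  rw [hA]
  simp [map_sum, h]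

/-- The extension of `φ k ↦ ρ k`. -/
noncomputable def phi : (W →ₗ[ℂ] W) →ₗ[ℂ] (X →ₗ[ℂ] X) :=
  ((finrank ℂ W : ℂ) / Fintype.card K) •
    ∑ k : K, ((LinearMap.trace ℂ W).comp (LinearMap.mulRight ℂ (φ k⁻¹))).smulRight (ρ k)

omit [φ.IsIrreducible] [FiniteDimensional ℂ W] [FiniteDimensional ℂ X] in
theorem phi_apply (A : W →ₗ[ℂ] W) : phi φ ρ A =
    ((finrank ℂ W : ℂ) / Fintype.card K) • ∑ k : K, LinearMap.trace ℂ W (A * φ k⁻¹) • ρ k := by
  simp [phi, LinearMap.sum_apply]

variable {φ ρ} {m : ℂ} (hρ : ∀ k, ρ.character k = m * φ.character k)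

include hρ

theorem phi_one : phi φ ρ 1 = 1 := by
  set e := phi φ ρ 1 with he
  have hd := finrank_ne φ
  have hK := card_ne (K := K)
  have he' : e = ((finrank ℂ W : ℂ) / Fintype.card K) • ∑ k : K, φ.character k⁻¹ • ρ k := by
    rw [he, phi_apply]; simp [Representation.character]
  have htr : LinearMap.trace ℂ X e = finrank ℂ X := by
    have h1 : (finrank ℂ X : ℂ) = m * finrank ℂ W := by
      rw [← ρ.char_one, hρ, φ.char_one]
    rw [he', map_smul, map_sum, smul_eq_mul, h1]
    have h2 : ∀ k : K, LinearMap.trace ℂ X (φ.character k⁻¹ • ρ k) =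
        m * (φ.character k * φ.character k⁻¹) := fun k => by
      rw [map_smul, smul_eq_mul, show LinearMap.trace ℂ X (ρ k) = ρ.character k from rfl, hρ]; ring
    rw [Finset.sum_congr rfl fun k _ => h2 k, ← Finset.mul_sum, CharClifford.sum_character_mul_inv,
      Nat.card_eq_fintype_card]
    field_simp
  have hidem : e * e = e := by
    rw [he', smul_mul_assoc, mul_smul_comm, smul_smul, Finset.sum_mul]
    simp only [Finset.mul_sum, smul_mul_assoc, mul_smul_comm, smul_smul, ← map_mul]
    have h3 : ∀ k : K, ∑ j : K, (φ.character j⁻¹ * φ.character k⁻¹) • ρ (k * j) =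
        ∑ y : K, (φ.character k⁻¹ * φ.character (y⁻¹ * k)) • ρ y := fun k =>
      Fintype.sum_equiv (Equiv.mulLeft k) _ _ fun j => by simp [mul_assoc, mul_comm (φ.character j⁻¹)]
    rw [Finset.sum_congr rfl fun k _ => h3 k, Finset.sum_comm]
    simp only [← Finset.sum_smul, sum_char_mul]
    simp only [← smul_smul, ← Finset.smul_sum]
    rw [smul_smul, smul_smul]
    congr 1
    field_simp
  have h0 : LinearMap.trace ℂ X (1 - e) = 0 := by
    rw [map_sub, LinearMap.trace_one, htr, sub_self]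
  have hp : LinearMap.IsProj (LinearMap.range (1 - e)) (1 - e) :=
    LinearMap.IsIdempotentElem.isProj_range _ (IsIdempotentElem.one_sub hidem)
  rw [hp.trace, Nat.cast_eq_zero, Submodule.finrank_eq_zero, LinearMap.range_eq_bot] at h0
  exact (sub_eq_zero.mp h0).symm

theorem phi_rep (x : K) : phi φ ρ (φ x) = ρ x := by
  have h : phi φ ρ (φ x) = ρ x * phi φ ρ 1 := by
    rw [phi_apply, phi_apply, mul_smul_comm, Finset.mul_sum]
    congr 1
    refine (Fintype.sum_equiv (Equiv.mulLeft x) _ _ fun j => ?_).symm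
    simp only [Equiv.coe_mulLeft, one_mul, mul_smul_comm, ← map_mul, mul_inv_rev, ← mul_assoc]
    exact congrArg (· • ρ (x * j)) (φ.char_conj j⁻¹ x).symm
  rw [h, phi_one hρ, mul_one]

theorem phi_mul (A B : W →ₗ[ℂ] W) : phi φ ρ (A * B) = phi φ ρ A * phi φ ρ B := by
  have h : ∀ k, (phi φ ρ).comp (LinearMap.mulLeft ℂ (φ k)) =
      (LinearMap.mulLeft ℂ (ρ k)).comp (phi φ ρ) := fun k =>
    ext_rep φ fun j => by simp [← map_mul, phi_rep hρ]
  have h2 : (phi φ ρ).comp (LinearMap.mulRight ℂ B) =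
      (LinearMap.mulRight ℂ (phi φ ρ B)).comp (phi φ ρ) :=
    ext_rep φ fun k => by simpa [phi_rep hρ] using LinearMap.congr_fun (h k) B
  simpa using LinearMap.congr_fun h2 A

end Cfsg.Agent.BlkChar.OddCorr
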