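import Cfsg.Agent.BlkChar.OddCorr.InvCase
import Cfsg.Agent.CharDeep.Ext.Inertia
import Cfsg.Agent.CharDeep.Ext.GoingDown

/-!
# Reduction to an invariant character by the Clifford correspondence
-/

namespace Cfsg.Agent.BlkChar.OddCorr

open scoped commutatorElement ComplexConjugate
open CharDeep.Ext (conjFn inertia)

/-- The inner product only depends on the group up to isomorphism. -/
theorem classInner_comp_equiv {M N : Type*} [Group M] [Fintype M] [Group N] [Fintype N] (e : M ≃* N)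
    (f g : N → ℂ) :
    Cfsg.classInner (fun x => f (e x)) (fun x => g (e x)) = Cfsg.classInner f g := by
  unfold Cfsg.classInner
  rw [Nat.card_congr e.toEquiv]
  congr 1
  exact Fintype.sum_equiv e.toEquiv _ _ fun x => rfl

/-- Transport of an irreducible character along an isomorphism. -/
def irrComp {M N : Type*} [Group M] [Finite M] [Group N] [Finite N] (e : M ≃* N)
    (θ : Cfsg.IrrCharacter N) : Cfsg.IrrCharacter M :=
  ⟨fun x => (θ : N → ℂ) (e x),
    CharCore.isIrrCharacter_comp_surjective θ.2 e.toMonoidHom e.surjective⟩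

theorem irrComp_apply {M N : Type*} [Group M] [Finite M] [Group N] [Finite N] (e : M ≃* N)
    (θ : Cfsg.IrrCharacter N) (x : M) : (irrComp e θ : M → ℂ) x = (θ : N → ℂ) (e x) := rfl

/-- The Clifford correspondent is the only constituent over the character. -/
theorem clifford_corr {G : Type*} [Group G] [Fintype G] (L : Subgroup G) [L.Normal] [Fintype L]
    (θ : Cfsg.IrrCharacter L) (T : Subgroup G) [Fintype T] (hT : T = inertia L (θ : L → ℂ))
    (hLT : L ≤ T) (χ : Cfsg.IrrCharacter G)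
    (hχ : Cfsg.classInner (fun l : L => (χ : G → ℂ) l) θ ≠ 0) :
    ∃ ξ : Cfsg.IrrCharacter T, Cfsg.indFun T (ξ : T → ℂ) = χ ∧
      Cfsg.classInner (fun l : L => (ξ : T → ℂ) (Subgroup.inclusion hLT l)) θ ≠ 0 ∧
      Cfsg.classInner (fun t : T => (χ : G → ℂ) t) ξ = 1 ∧
      ∀ η : Cfsg.IrrCharacter T, Cfsg.classInner (fun t : T => (χ : G → ℂ) t) η ≠ 0 →
        Cfsg.classInner (fun l : L => (η : T → ℂ) (Subgroup.inclusion hLT l)) θ ≠ 0 → η = ξ := by
  classical
  obtain ⟨ξ, hξ, hind, hmult⟩ := CharDeep.Ext.exists_inertia_induced L θ.2 T (fun g => by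
    rw [hT]
    exact ⟨fun h n => congrFun (h : conjFn L (θ : L → ℂ) g = θ) n, fun h => funext h⟩) hLT χ.2 hχ
  obtain ⟨p, hp⟩ := CharCore.IsCharacter.exists_sum
    (CharCore.isCharacter_restrict (CharCore.irr_isCharacter χ) T)
  choose r hr using fun η : Cfsg.IrrCharacter T =>
    CharCore.IsCharacter.exists_classInner_irr_eq_natCast
      (CharCore.isCharacter_comp (CharCore.irr_isCharacter η) (Subgroup.inclusion hLT)) θ
  set ξ' : Cfsg.IrrCharacter T := ⟨ξ, hξ⟩
  have hsum : r ξ' = ∑ η, p η * r η := by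
    apply Nat.cast_injective (R := ℂ)
    rw [← hr]
    show Cfsg.classInner (fun n : L => ξ (Subgroup.inclusion hLT n)) (θ : L → ℂ) = _
    refine hmult.trans ?_
    rw [show (fun l : L => (χ : G → ℂ) l) = ∑ η : Cfsg.IrrCharacter T,
        (p η : ℂ) • fun l : L => (η : T → ℂ) (Subgroup.inclusion hLT l) from funext fun l => by
      have := congrFun hp (Subgroup.inclusion hLT l)
      simpa [Finset.sum_apply] using this, CharCore.classInner_sum_left, Nat.cast_sum]
    exact Finset.sum_congr rfl fun η _ => by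
      rw [CharCore.classInner_smul_left, Nat.cast_mul]
      exact congrArg _ (hr η)
  have hr0 : r ξ' ≠ 0 := fun h => hχ (by
    rw [← hmult]; exact (hr ξ').trans (by rw [h, Nat.cast_zero]))
  have hpξ : Cfsg.classInner (fun t : T => (χ : G → ℂ) t) ξ = p ξ' := by
    rw [show (fun t : T => (χ : G → ℂ) t) = _ from hp]
    exact CharCore.classInner_sum_all (fun η => (p η : ℂ)) ξ'
  have hp0 : p ξ' ≠ 0 := by
    intro h
    have h1 := CharInd.classInner_indFun_left T ξ (CharCore.irr_isClassFunction χ)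
    rw [hind, CharCore.classInner_irr_self, ← CharInd.classInner_swap, hpξ, h, Nat.cast_zero,
      map_zero] at h1
    exact one_ne_zero h1
  rw [← Finset.add_sum_erase _ _ (Finset.mem_univ ξ')] at hsum
  have hle : r ξ' ≤ p ξ' * r ξ' := Nat.le_mul_of_pos_left _ (Nat.pos_of_ne_zero hp0)
  have hrest : ∑ η ∈ Finset.univ.erase ξ', p η * r η = 0 := by omega
  have hp1 : p ξ' = 1 := Nat.eq_of_mul_eq_mul_right (Nat.pos_of_ne_zero hr0) (by omega)
  refine ⟨ξ', hind, fun h => hr0 ?_, ?_, fun η h1 h2 => ?_⟩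
  · exact Nat.cast_eq_zero.mp ((hr ξ').symm.trans h)
  · show Cfsg.classInner _ ξ = 1
    rw [hpξ, hp1, Nat.cast_one]
  · by_contra hne
    have h3 := Finset.sum_eq_zero_iff.mp hrest η (Finset.mem_erase.mpr ⟨hne, Finset.mem_univ _⟩)
    rcases Nat.mul_eq_zero.mp h3 with h4 | h4
    · apply h1
      rw [show (fun t : T => (χ : G → ℂ) t) = _ from hp, CharCore.classInner_sum_all, h4,
        Nat.cast_zero]
    · exact h2 ((hr η).trans (by rw [h4, Nat.cast_zero]))

variable {G A : Type*} [Group G] [Fintype G] [Group A] [Fintype A]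

/-- Orbit products of the section lie in the bottom. -/
def OrbitTriv (act : A →* MulAut G) (K L : Subgroup G) : Prop :=
  ∀ x ∈ K, ((Finset.univ : Finset A).toList.map fun a => act a x).prod ∈ L

theorem hom_orbitTriv {act : A →* MulAut G} {K L : Subgroup G} (h : OrbitTriv act K L)
    (hK : ∀ a, ∀ x ∈ K, act a x ∈ K) (l : K →* ℂˣ) (hl : ∀ x : K, (x : G) ∈ L → l x = 1) (x : K) :
    ∏ a, l ⟨act a x, hK a x x.2⟩ = 1 := by
  rw [← Finset.prod_map_toList]
  have e : ((Finset.univ : Finset A).toList.map fun a => l ⟨act a x, hK a x x.2⟩) =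
      ((Finset.univ : Finset A).toList.map fun a => (⟨act a x, hK a x x.2⟩ : K)).map l := by
    rw [List.map_map]; rfl
  rw [e, ← map_list_prod]
  refine hl _ ?_
  rw [Subgroup.val_list_prod, List.map_map]
  exact h x x.2

variable (D : Section G A)

/-- An element with trivial displacement modulo a subgroup above `L` lies in it. -/
theorem Section.mem_of_displacement (T : Subgroup G) (hT : D.L ≤ T) {k : G} (hk : k ∈ D.K)
    (h : ∀ a, D.act a k * k⁻¹ ∈ T) : k ∈ T := by
  classical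
  by_contra hkT
  set T' := T.subgroupOf D.K with hT'
  have habT : ∀ x y : D.K, ⁅x, y⁆ ∈ T' := fun x y => hT (D.hab x x.2 y y.2)
  haveI : T'.Normal := ⟨fun n hn g => by
    have h1 : g * n * g⁻¹ = ⁅g, n⁆ * n := by rw [commutatorElement_def]; group
    rw [h1]; exact mul_mem (habT g n) hn⟩
  obtain ⟨l, hl, hne⟩ := exists_dual_ne_one habT (k := (⟨k, hk⟩ : D.K)) hkT
  have hfix : ∀ a, l ⟨D.act a k, D.hK a k hk⟩ = l ⟨k, hk⟩ := fun a => by
    rw [show (⟨D.act a k, D.hK a k hk⟩ : D.K) =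
      ⟨D.act a k * k⁻¹, mul_mem (D.hK a k hk) (inv_mem hk)⟩ * ⟨k, hk⟩ from
        Subtype.ext (inv_mul_cancel_right _ _).symm, map_mul, hl _ (h a), one_mul]
  have h3 := D.hnorm l (fun x hx => hl x (hT hx)) ⟨k, hk⟩
  rw [Finset.prod_congr rfl fun a _ => hfix a, Finset.prod_const, Finset.card_univ] at h3
  have h4 : l ⟨k, hk⟩ ^ Nat.card D.K = 1 := by rw [← map_pow, pow_card_eq_one', map_one]
  have hcopK : (Fintype.card A).Coprime (Nat.card D.K) := by
    rw [← Nat.card_eq_fintype_card]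
    exact D.hcop.coprime_dvd_right (Subgroup.card_subgroup_dvd_card D.K)
  apply hne
  rw [← pow_one (l _), ← hcopK.gcd_eq_one]
  exact pow_gcd_eq_one.mpr ⟨h3, h4⟩

variable [Fintype D.L]

/-- The inertia group of an invariant character is invariant. -/
theorem Section.act_mem_inertia (θ : Cfsg.IrrCharacter D.L)
    (hθA : ∀ a, ∀ l : D.L, (θ : D.L → ℂ) ⟨D.act a l, D.hL a l l.2⟩ = (θ : D.L → ℂ) l)
    (a : A) {g : G} (hg : haveI := D.nL; g ∈ inertia D.L (θ : D.L → ℂ)) :
    haveI := D.nL; D.act a g ∈ inertia D.L (θ : D.L → ℂ) := by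
  haveI := D.nL
  funext n
  have hm : D.act a⁻¹ (n : G) ∈ D.L := D.hL a⁻¹ n n.2
  have hback : D.act a (D.act a⁻¹ (n : G)) = n := by
    rw [← MulAut.mul_apply, ← map_mul, mul_inv_cancel, map_one, MulAut.one_apply]
  have h1 := congrFun (hg : conjFn D.L (θ : D.L → ℂ) g = θ) ⟨_, hm⟩
  have h2 := hθA a ⟨_, hm⟩
  rw [← show (θ : D.L → ℂ) ⟨D.act a (D.act a⁻¹ (n : G)), D.hL a _ hm⟩ = (θ : D.L → ℂ) n from
    congrArg _ (Subtype.ext hback), h2, ← h1]
  refine Eq.trans ?_ (hθA a _)
  refine congrArg (θ : D.L → ℂ) (Subtype.ext ?_)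
  show D.act a g * n * (D.act a g)⁻¹ = D.act a (g * D.act a⁻¹ n * g⁻¹)
  rw [map_mul, map_mul, map_inv (D.act a), hback]

/-- Both factors of an inertial element lie in the inertia group. -/
theorem Section.split_mem (T : Subgroup G) (hT : D.L ≤ T) (hTA : ∀ a, ∀ x ∈ T, D.act a x ∈ T)
    {k c : G} (hk : k ∈ D.K) (hc : c ∈ D.C) (h : k * c ∈ T) : k ∈ T ∧ c ∈ T := by
  have hkT : k ∈ T := D.mem_of_displacement T hT hk fun a => by
    have h1 := mul_mem (hTA a _ h) (inv_mem h)
    rw [map_mul, D.hC a c hc] at h1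
    simpa [mul_assoc] using h1
  exact ⟨hkT, by simpa using mul_mem (inv_mem hkT) h⟩

/-- The section inside an invariant subgroup containing `L`. -/
noncomputable def Section.restrict (hE : OrbitTriv D.act D.K D.L) (T : Subgroup G) (hT : D.L ≤ T)
    (hTA : ∀ a, ∀ x ∈ T, D.act a x ∈ T) : Section T A where
  act := CharCore.restrictAut D.act T hTA
  K := D.K.subgroupOf T
  L := D.L.subgroupOf T
  C := D.C.subgroupOf T
  H := D.H.subgroupOf T
  nK := haveI := D.nK; Subgroup.normal_subgroupOf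
  nL := haveI := D.nL; Subgroup.normal_subgroupOf
  hLK := fun _ hx => D.hLK hx
  hC := fun a c hc => Subtype.ext (D.hC a c hc)
  hH := by
    haveI := D.nL
    haveI : (D.L.subgroupOf T).Normal := Subgroup.normal_subgroupOf
    refine le_antisymm (fun x hx => ?_) (sup_le (fun x hx => ?_) (fun x hx => ?_))
    · have hx' : (x : G) ∈ D.L ⊔ D.C := D.hH ▸ hx
      obtain ⟨l, hl, c, hc, he⟩ := Subgroup.mem_sup_of_normal_left.mp hx'
      have hcT : c ∈ T := by
        have := mul_mem (inv_mem (hT hl)) x.2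
        rwa [← he, inv_mul_cancel_left] at this
      rw [show x = ⟨l, hT hl⟩ * ⟨c, hcT⟩ from Subtype.ext he.symm]
      exact mul_mem (Subgroup.mem_sup_left hl) (Subgroup.mem_sup_right hc)
    · exact (D.hH ▸ Subgroup.mem_sup_left hx : (x : G) ∈ D.H)
    · exact (D.hH ▸ Subgroup.mem_sup_right hx : (x : G) ∈ D.H)
  hgen := fun g => by
    obtain ⟨k, hk, c, hc, he⟩ := D.hgen g
    obtain ⟨h1, h2⟩ := D.split_mem T hT hTA hk hc (he ▸ g.2)
    exact ⟨⟨k, h1⟩, hk, ⟨c, h2⟩, hc, Subtype.ext he⟩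
  hHK := fun _ hx hk => D.hHK _ hx hk
  hK := fun a _ hx => D.hK a _ hx
  hL := fun a _ hx => D.hL a _ hx
  hab := fun _ hx _ hy => D.hab _ hx _ hy
  hnorm := by
    letI := Fintype.ofFinite T
    refine hom_orbitTriv (act := CharCore.restrictAut D.act T hTA) (K := D.K.subgroupOf T)
      (L := D.L.subgroupOf T) (fun x hx => ?_) (fun a _ hx => D.hK a _ hx)
    show ((((Finset.univ : Finset A).toList.map fun a =>
      CharCore.restrictAut D.act T hTA a x).prod : T) : G) ∈ D.L
    rw [Subgroup.val_list_prod, List.map_map]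
    exact hE _ hx
  hcop := D.hcop.coprime_dvd_right (Subgroup.card_subgroup_dvd_card T)
  hodd := Odd.of_dvd_nat D.hodd (Subgroup.card_subgroup_dvd_card T)
  hsol := haveI := D.hsol; inferInstance

variable [Fintype D.H]

/-- The correspondence over an invariant character of `L`. -/
theorem over_case (hE : OrbitTriv D.act D.K D.L) (θ : Cfsg.IrrCharacter D.L)
    (hθA : ∀ a, ∀ l : D.L, (θ : D.L → ℂ) ⟨D.act a l, D.hL a l l.2⟩ = (θ : D.L → ℂ) l) :
    (∀ χ : Cfsg.IrrCharacter G, D.InvG χ → Cfsg.classInner (fun l : D.L => (χ : G → ℂ) l) θ ≠ 0 →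
      ∃ ψ : Cfsg.IrrCharacter D.H, D.InvH ψ ∧ OddMult (fun h : D.H => (χ : G → ℂ) h) ψ ∧
        ∀ ψ' : Cfsg.IrrCharacter D.H,
          Cfsg.classInner (fun l : D.L => (ψ' : D.H → ℂ) (Subgroup.inclusion D.le_H l)) θ ≠ 0 →
          OddMult (fun h : D.H => (χ : G → ℂ) h) ψ' → ψ' = ψ) ∧
    (∀ χ χ' : Cfsg.IrrCharacter G, D.InvG χ → D.InvG χ' →
      Cfsg.classInner (fun l : D.L => (χ : G → ℂ) l) θ ≠ 0 →
      Cfsg.classInner (fun l : D.L => (χ' : G → ℂ) l) θ ≠ 0 → ∀ ψ : Cfsg.IrrCharacter D.H,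
      Cfsg.classInner (fun l : D.L => (ψ : D.H → ℂ) (Subgroup.inclusion D.le_H l)) θ ≠ 0 →
      OddMult (fun h : D.H => (χ : G → ℂ) h) ψ → OddMult (fun h : D.H => (χ' : G → ℂ) h) ψ →
        χ = χ') ∧
    (∀ ψ : Cfsg.IrrCharacter D.H,
      Cfsg.classInner (fun l : D.L => (ψ : D.H → ℂ) (Subgroup.inclusion D.le_H l)) θ ≠ 0 →
      ∃ χ : Cfsg.IrrCharacter G, D.InvG χ ∧ OddMult (fun h : D.H => (χ : G → ℂ) h) ψ) := by
  classical
  haveI := D.nL
  set T := inertia D.L (θ : D.L → ℂ) with hTdef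
  have hT : D.L ≤ T := CharDeep.Ext.le_inertia D.L (CharCore.irr_isClassFunction θ)
  have hTA : ∀ a, ∀ x ∈ T, D.act a x ∈ T := fun a x hx => D.act_mem_inertia θ hθA a hx
  letI := Fintype.ofFinite T
  let D' := D.restrict hE T hT hTA
  letI := Fintype.ofFinite D'.L
  letI := Fintype.ofFinite D'.H
  let eL : D'.L ≃* D.L := Subgroup.subgroupOfEquivOfLe hT
  let θ' : Cfsg.IrrCharacter D'.L := irrComp eL θ
  have hθ'G : haveI := D'.nL; CharDeep.Ext.Inv D'.L (θ' : D'.L → ℂ) := fun t n =>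
    (congrArg (θ : D.L → ℂ) (Subtype.ext rfl)).trans
      (congrFun (t.2 : conjFn D.L (θ : D.L → ℂ) (t : G) = θ) (eL n))
  have hθ'A : ∀ a, ∀ l : D'.L, (θ' : D'.L → ℂ) ⟨D'.act a l, D'.hL a l l.2⟩ = (θ' : D'.L → ℂ) l :=
    fun a l => (congrArg (θ : D.L → ℂ) (Subtype.ext rfl)).trans (hθA a (eL l))
  obtain ⟨hI1, hI2, hI3⟩ := inv_case D' θ' hθ'G hθ'A
  -- the inertia group inside `H`
  set LH := D.L.subgroupOf D.H with hLH
  haveI : LH.Normal := Subgroup.normal_subgroupOf
  letI := Fintype.ofFinite LH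
  let eLH : LH ≃* D.L := Subgroup.subgroupOfEquivOfLe D.le_H
  let θH : Cfsg.IrrCharacter LH := irrComp eLH θ
  set U := T.subgroupOf D.H with hUdef
  letI := Fintype.ofFinite U
  have hU : U = inertia LH (θH : LH → ℂ) := by
    ext x
    constructor
    · intro hx
      funext n
      exact (congrArg (θ : D.L → ℂ) (Subtype.ext rfl)).trans
        (congrFun (hx : conjFn D.L (θ : D.L → ℂ) (x : G) = θ) (eLH n))
    · intro hx
      show conjFn D.L (θ : D.L → ℂ) (x : G) = θ
      funext l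
      obtain ⟨n, rfl⟩ := eLH.surjective l
      exact (congrArg (θ : D.L → ℂ) (Subtype.ext rfl)).trans
        (congrFun (hx : conjFn LH (θH : LH → ℂ) x = θH) n)
  have hLU : LH ≤ U := fun x hx => hT hx
  let sw : U ≃* D'.H :=
    { toFun := fun x => ⟨⟨((x : D.H) : G), x.2⟩, (x : D.H).2⟩
      invFun := fun y => ⟨⟨((y : T) : G), y.2⟩, (y : T).2⟩
      left_inv := fun _ => rfl
      right_inv := fun _ => rfl
      map_mul' := fun _ _ => rfl }
  -- being over θ, in the different presentations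
  have hover : ∀ f : D.L → ℂ,
      Cfsg.classInner (fun n : LH => f (eLH n)) θH = Cfsg.classInner f (θ : D.L → ℂ) := fun f =>
    classInner_comp_equiv eLH f θ
  have hover' : ∀ f : D.L → ℂ,
      Cfsg.classInner (fun n : D'.L => f (eL n)) θ' = Cfsg.classInner f (θ : D.L → ℂ) := fun f =>
    classInner_comp_equiv eL f θ
  have hoverU : ∀ η : D'.H → ℂ,
      Cfsg.classInner (fun n : LH => η (sw (Subgroup.inclusion hLU n))) θH =
        Cfsg.classInner (fun l : D'.L => η (Subgroup.inclusion D'.le_H l)) θ' := by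
    intro η
    let g : D.L → ℂ := fun l => η (Subgroup.inclusion D'.le_H (eL.symm l))
    have e1 : (fun n : LH => η (sw (Subgroup.inclusion hLU n))) = fun n => g (eLH n) :=
      funext fun n => congrArg η (Subtype.ext (Subtype.ext rfl))
    have e2 : (fun l : D'.L => η (Subgroup.inclusion D'.le_H l)) = fun l => g (eL l) :=
      funext fun l => congrArg η (congrArg _ (eL.symm_apply_apply l).symm)
    rw [e1, e2, hover, hover']
  -- correspondents
  have hG : ∀ χ : Cfsg.IrrCharacter G, Cfsg.classInner (fun l : D.L => (χ : G → ℂ) l) θ ≠ 0 →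
      ∃ ξ : Cfsg.IrrCharacter T, Cfsg.indFun T (ξ : T → ℂ) = χ ∧
        Cfsg.classInner (fun l : D'.L => (ξ : T → ℂ) l) θ' ≠ 0 ∧
        (D.InvG χ → D'.InvG ξ) ∧
        (∀ η : Cfsg.IrrCharacter T, Cfsg.classInner (fun t : T => (χ : G → ℂ) t) η ≠ 0 →
          Cfsg.classInner (fun l : D'.L => (η : T → ℂ) l) θ' ≠ 0 → η = ξ) ∧
        ∀ (ψ : Cfsg.IrrCharacter D.H) (η : Cfsg.IrrCharacter D'.H),
          Cfsg.classInner (fun l : D'.L => (η : D'.H → ℂ) (Subgroup.inclusion D'.le_H l)) θ' ≠ 0 →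
          Cfsg.indFun U (fun x => (η : D'.H → ℂ) (sw x)) = ψ →
          Cfsg.classInner (fun h : D.H => (χ : G → ℂ) h) ψ =
            Cfsg.classInner (fun x : D'.H => (ξ : T → ℂ) x) η := by
    intro χ hχ
    obtain ⟨ξ, hind, hξθ, hξ1, huniq⟩ := clifford_corr D.L θ T rfl hT χ hχ
    have hξθ' : Cfsg.classInner (fun l : D'.L => (ξ : T → ℂ) l) θ' ≠ 0 := by
      rw [← hover'] at hξθ
      exact hξθ
    refine ⟨ξ, hind, hξθ', fun hinv a t => ?_, fun η h1 h2 => huniq η h1 (by
      rw [← hover']; exact h2), fun ψ η hη hψ => ?_⟩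
    · have h := huniq (irrComp (D'.act a) ξ) ?_ ?_
      · exact congrFun (congrArg Subtype.val h) t
      · rw [show (fun t : T => (χ : G → ℂ) t) = fun t : T => (χ : G → ℂ) ((D'.act a t : T) : G) from
          funext fun t => (hinv a t).symm]
        show Cfsg.classInner _ (fun t => (ξ : T → ℂ) (D'.act a t)) ≠ 0
        rw [classInner_comp_equiv (D'.act a) (fun t : T => (χ : G → ℂ) t) (ξ : T → ℂ), hξ1]
        exact one_ne_zero
      · let α : MulAut D.L := CharCore.restrictAut D.act D.L D.hL a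
        rw [show (θ : D.L → ℂ) = fun l => (θ : D.L → ℂ) (α l) from funext fun l => (hθA a l).symm,
          show (fun l : D.L => (irrComp (D'.act a) ξ : T → ℂ) (Subgroup.inclusion hT l)) =
            fun l => (fun m : D.L => (ξ : T → ℂ) (Subgroup.inclusion hT m)) (α l) from rfl]
        exact (classInner_comp_equiv α (fun m : D.L => (ξ : T → ℂ) (Subgroup.inclusion hT m))
          (θ : D.L → ℂ)).trans_ne hξθ
    · obtain ⟨p, hp⟩ := CharCore.IsCharacter.exists_sum
        (CharCore.isCharacter_restrict (CharCore.irr_isCharacter χ) T)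
      have e1 : Cfsg.classInner (fun h : D.H => (χ : G → ℂ) h) ψ =
          Cfsg.classInner (fun y : D'.H => (χ : G → ℂ) ((y : T) : G)) η := by
        rw [← hψ, CharInd.classInner_indFun_right U _
          (CharCore.IsCharacter.isClassFunction
            (CharCore.isCharacter_restrict (CharCore.irr_isCharacter χ) D.H)),
          ← classInner_comp_equiv sw]
        rfl
      rw [e1, show (fun y : D'.H => (χ : G → ℂ) ((y : T) : G)) = ∑ ζ : Cfsg.IrrCharacter T,
          (p ζ : ℂ) • fun y : D'.H => (ζ : T → ℂ) y from funext fun y => by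
        have := congrFun hp (y : T)
        simpa [Finset.sum_apply] using this, CharCore.classInner_sum_left, Finset.sum_eq_single ξ]
      · have hpξ : Cfsg.classInner (fun t : T => (χ : G → ℂ) t) ξ = p ξ := by
          rw [show (fun t : T => (χ : G → ℂ) t) = _ from hp, CharCore.classInner_sum_all]
        rw [CharCore.classInner_smul_left, ← hpξ, hξ1, one_mul]
      · intro ζ _ hne
        rw [CharCore.classInner_smul_left]
        by_contra h0
        obtain ⟨h1, h2⟩ := mul_ne_zero_iff.mp h0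
        refine hne (huniq ζ ?_ ?_)
        · rw [show (fun t : T => (χ : G → ℂ) t) = _ from hp, CharCore.classInner_sum_all]
          exact h1
        · rw [← hover']
          exact CharCore.classInner_comp_ne_zero D'.H.subtype (Subgroup.inclusion D'.le_H)
            (CharCore.irr_isCharacter ζ) η θ' h2 hη
      · exact fun h => absurd (Finset.mem_univ _) h
  have hH : ∀ ψ : Cfsg.IrrCharacter D.H,
      Cfsg.classInner (fun l : D.L => (ψ : D.H → ℂ) (Subgroup.inclusion D.le_H l)) θ ≠ 0 →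
      ∃ η : Cfsg.IrrCharacter D'.H,
        Cfsg.classInner (fun l : D'.L => (η : D'.H → ℂ) (Subgroup.inclusion D'.le_H l)) θ' ≠ 0 ∧
        Cfsg.indFun U (fun x => (η : D'.H → ℂ) (sw x)) = ψ ∧
        ∀ η' : Cfsg.IrrCharacter D'.H,
          Cfsg.classInner (fun x : U => (ψ : D.H → ℂ) x) (fun x => (η' : D'.H → ℂ) (sw x)) ≠ 0 →
          Cfsg.classInner (fun l : D'.L => (η' : D'.H → ℂ) (Subgroup.inclusion D'.le_H l)) θ' ≠ 0 →
            η' = η := by
    intro ψ hψ
    have hψ' : Cfsg.classInner (fun n : LH => (ψ : D.H → ℂ) n) θH ≠ 0 := by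
      rw [← hover] at hψ
      exact hψ
    obtain ⟨ζ, hind, hζθ, -, huniq⟩ := clifford_corr LH θH U hU hLU ψ hψ'
    refine ⟨irrComp sw.symm ζ, ?_, ?_, fun η' h1 h2 => ?_⟩
    · rw [← hoverU]
      simpa [irrComp_apply] using hζθ
    · simpa [irrComp_apply] using hind
    · have h := huniq (irrComp sw η') h1 (by rw [← hoverU] at h2; exact h2)
      refine Subtype.ext (funext fun y => ?_)
      rw [irrComp_apply, ← h, irrComp_apply, MulEquiv.apply_symm_apply]
  have hH' : ∀ η : Cfsg.IrrCharacter D'.H,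
      Cfsg.classInner (fun l : D'.L => (η : D'.H → ℂ) (Subgroup.inclusion D'.le_H l)) θ' ≠ 0 →
      ∃ ψ : Cfsg.IrrCharacter D.H,
        Cfsg.classInner (fun l : D.L => (ψ : D.H → ℂ) (Subgroup.inclusion D.le_H l)) θ ≠ 0 ∧
        Cfsg.indFun U (fun x => (η : D'.H → ℂ) (sw x)) = ψ := by
    intro η hη
    have hc := CharInd.isCharacter_indFun U (CharCore.irr_isCharacter (irrComp sw η))
    obtain ⟨ψ, hψ⟩ := CharClifford.exists_constituent hc (by
      rw [CharInd.indFun_apply_one]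
      exact mul_ne_zero (Nat.cast_ne_zero.mpr Subgroup.index_ne_zero_of_finite)
        (CharCore.irr_apply_one_ne_zero _))
    have h1 : Cfsg.classInner (fun x : U => (ψ : D.H → ℂ) x) (fun x => (η : D'.H → ℂ) (sw x)) ≠ 0 := by
      intro h0
      apply hψ
      rw [← CharCore.conj_classInner,
        CharInd.classInner_indFun_right U _ (CharCore.irr_isClassFunction ψ)]
      exact (congrArg conj h0).trans (map_zero _)
    have h2 : Cfsg.classInner (fun l : D.L => (ψ : D.H → ℂ) (Subgroup.inclusion D.le_H l)) θ ≠ 0 := by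
      rw [← hover]
      exact CharCore.classInner_comp_ne_zero U.subtype (Subgroup.inclusion hLU)
        (CharCore.irr_isCharacter ψ) (irrComp sw η) θH h1 (by rw [← hoverU] at hη; exact hη)
    obtain ⟨η₀, -, hind, huniq⟩ := hH ψ h2
    rw [← huniq η h1 hη] at hind
    exact ⟨ψ, h2, hind⟩
  refine ⟨fun χ hinv hχ => ?_, fun χ χ' hinv hinv' hχ hχ' ψ hψ ho ho' => ?_, fun ψ hψ => ?_⟩
  · obtain ⟨ξ, hind, hξθ, hξinv, -, hmult⟩ := hG χ hχ
    obtain ⟨η, -, hηo, hηu⟩ := hI1 ξ (hξinv hinv) hξθ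
    have hηθ : Cfsg.classInner
        (fun l : D'.L => (η : D'.H → ℂ) (Subgroup.inclusion D'.le_H l)) θ' ≠ 0 := by
      haveI := D'.nL
      obtain ⟨m, hm, hmo⟩ := hηo
      obtain ⟨b, hb, hb'⟩ := restrict_eq_of_constituent D'.le_H (CharCore.irr_isCharacter ξ) hθ'G
        (fun n => congrFun (CharDeep.Ext.restrict_eq_smul D'.L hθ'G θ'.2 ξ.2 hξθ) n) η
        (by rw [hm]; exact Nat.cast_ne_zero.mpr hmo.pos.ne')
      rw [show (fun l : D'.L => (η : D'.H → ℂ) (Subgroup.inclusion D'.le_H l)) =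
        (b : ℂ) • (θ' : D'.L → ℂ) from funext hb', CharCore.classInner_smul_left,
        CharCore.classInner_irr_self, mul_one]
      exact Nat.cast_ne_zero.mpr hb
    obtain ⟨ψ, hψθ, hψ⟩ := hH' η hηθ
    have huniq : ∀ ψ' : Cfsg.IrrCharacter D.H,
        Cfsg.classInner (fun l : D.L => (ψ' : D.H → ℂ) (Subgroup.inclusion D.le_H l)) θ ≠ 0 →
        OddMult (fun h : D.H => (χ : G → ℂ) h) ψ' → ψ' = ψ := by
      intro ψ' hψ' ho
      obtain ⟨η', hη', hind', -⟩ := hH ψ' hψ'
      obtain ⟨m, hm, hmo⟩ := ho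
      rw [hmult ψ' η' hη' hind'] at hm
      rw [hηu η' ⟨m, hm, hmo⟩] at hind'
      exact Subtype.ext (hind'.symm.trans hψ)
    obtain ⟨m, hm, hmo⟩ := hηo
    have hψo : OddMult (fun h : D.H => (χ : G → ℂ) h) ψ := ⟨m, (hmult ψ η hηθ hψ).trans hm, hmo⟩
    refine ⟨ψ, fun a h => ?_, hψo, huniq⟩
    let αH : MulAut D.H := CharCore.restrictAut D.act D.H (fun a x hx => D.hH_mem a x hx) a
    have h1 := huniq (irrComp αH ψ) ?_ ?_
    · exact congrFun (congrArg Subtype.val h1) h
    · let α : MulAut D.L := CharCore.restrictAut D.act D.L D.hL a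
      rw [show (θ : D.L → ℂ) = fun l => (θ : D.L → ℂ) (α l) from funext fun l => (hθA a l).symm,
        show (fun l : D.L => (irrComp αH ψ : D.H → ℂ) (Subgroup.inclusion D.le_H l)) =
          fun l => (fun m : D.L => (ψ : D.H → ℂ) (Subgroup.inclusion D.le_H m)) (α l) from rfl]
      exact (classInner_comp_equiv α (fun m : D.L => (ψ : D.H → ℂ) (Subgroup.inclusion D.le_H m))
        (θ : D.L → ℂ)).trans_ne hψθ
    · obtain ⟨k, hk, hko⟩ := hψo
      refine ⟨k, ?_, hko⟩
      exact ((congrArg (fun f => Cfsg.classInner f (irrComp αH ψ : D.H → ℂ))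
        (funext fun h => (hinv a h).symm :
          (fun h : D.H => (χ : G → ℂ) h) = fun h : D.H => (χ : G → ℂ) ((αH h : D.H) : G))).trans
        (classInner_comp_equiv αH (fun h : D.H => (χ : G → ℂ) h) (ψ : D.H → ℂ))).trans hk
  · obtain ⟨ξ, hind, hξθ, hξinv, -, hmult⟩ := hG χ hχ
    obtain ⟨ξ', hind', hξθ', hξinv', -, hmult'⟩ := hG χ' hχ'
    obtain ⟨η, hη, hindη, -⟩ := hH ψ hψ
    have hξe : ξ = ξ' := by
      obtain ⟨m, hm, hmo⟩ := ho
      obtain ⟨m', hm', hmo'⟩ := ho'
      exact hI2 ξ ξ' (hξinv hinv) (hξinv' hinv') hξθ hξθ' η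
        ⟨m, (hmult ψ η hη hindη).symm.trans hm, hmo⟩
        ⟨m', (hmult' ψ η hη hindη).symm.trans hm', hmo'⟩
    refine Subtype.ext ?_
    rw [← hind, hξe, hind']
  · obtain ⟨η, hη, hindη, -⟩ := hH ψ hψ
    obtain ⟨ξ, hξA, hξθ, m, hm, hmo⟩ := hI3 η hη
    have hc := CharInd.isCharacter_indFun T (CharCore.irr_isCharacter ξ)
    obtain ⟨χ, hχ⟩ := CharClifford.exists_constituent hc (by
      rw [CharInd.indFun_apply_one]
      exact mul_ne_zero (Nat.cast_ne_zero.mpr Subgroup.index_ne_zero_of_finite)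
        (CharCore.irr_apply_one_ne_zero _))
    have h1 : Cfsg.classInner (fun t : T => (χ : G → ℂ) t) ξ ≠ 0 := by
      intro h0
      apply hχ
      rw [← CharCore.conj_classInner,
        CharInd.classInner_indFun_right T _ (CharCore.irr_isClassFunction χ), h0, map_zero]
    have h2 : Cfsg.classInner (fun l : D.L => (ξ : T → ℂ) (Subgroup.inclusion hT l)) θ ≠ 0 := by
      rw [← hover']
      exact hξθ
    have h3 : Cfsg.classInner (fun l : D.L => (χ : G → ℂ) l) θ ≠ 0 :=
      CharCore.classInner_comp_ne_zero T.subtype (Subgroup.inclusion hT)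
        (CharCore.irr_isCharacter χ) ξ θ h1 h2
    obtain ⟨ξ₁, hind₁, -, -, huniq, hmult⟩ := hG χ h3
    obtain rfl : ξ = ξ₁ := huniq ξ h1 hξθ
    refine ⟨χ, fun a g => ?_, m, (hmult ψ η hη hindη).trans hm, hmo⟩
    rw [← hind₁, CharInd.indFun_apply, CharInd.indFun_apply]
    congr 1
    refine (Fintype.sum_equiv (D.act a).toEquiv _ _ fun x => ?_).symm
    show Cfsg.extendByZero T (ξ : T → ℂ) (x⁻¹ * g * x) =
      Cfsg.extendByZero T (ξ : T → ℂ) ((D.act a x)⁻¹ * D.act a g * D.act a x)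
    rw [← map_inv, ← map_mul, ← map_mul]
    by_cases hy : x⁻¹ * g * x ∈ T
    · rw [CharInd.extendByZero_mem _ hy, CharInd.extendByZero_mem _ (hTA a _ hy)]
      exact (hξA a ⟨_, hy⟩).symm
    · rw [CharInd.extendByZero_notMem _ hy, CharInd.extendByZero_notMem]
      intro hy'
      apply hy
      have := hTA a⁻¹ _ hy'
      rwa [← MulAut.mul_apply, ← map_mul, inv_mul_cancel, map_one, MulAut.one_apply] at this

end Cfsg.Agent.BlkChar.OddCorr
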